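import Cfsg.Agent.Lib.Unitary.Generation

/-! Full transvection centres of a subgroup of `GU` and growth of good non-degenerate subspaces. -/

set_option autoImplicit false
set_option linter.unusedSectionVars false

namespace Cfsg.Agent.Lib.GenSU

open Matrix Module Cfsg.Agent.Lib.Unitary

variable {F : Type*} [Field F] [Fintype F] {q n : ℕ}

/-- All transvections with centre `v` lie in `K`. -/
def Full (K : Subgroup (Cfsg.GU n F q)) (v : Fin n → F) : Prop :=
  ∀ c : F, c + c ^ q = 0 → ∀ A : Cfsg.GU n F q, IsTvAt v c A → A ∈ K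

variable {K : Subgroup (Cfsg.GU n F q)}

theorem full_zero : Full K (0 : Fin n → F) := fun c _ A hA => by
  have : A = 1 := GU_ext fun x => by rw [hA]; simp
  rw [this]; exact one_mem K

theorem norm_fixed (hF : Fintype.card F = q ^ 2) (l : F) : (l * l ^ q) ^ q = l * l ^ q := by
  rw [mul_pow, pow_q_q hF, mul_comm]

theorem Full.smul (hF : Fintype.card F = q ^ 2) {v : Fin n → F} (h : Full K v) (l : F) :
    Full K (l • v) := fun c hc A hA => by
  refine h (c * (l * l ^ q)) ?_ A fun x => ?_
  · rw [mul_pow, norm_fixed hF, ← add_mul, hc, zero_mul]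
  · rw [hA, herm_smul_right, smul_smul]; congr 2; ring

theorem Full.conj {v : Fin n → F} (h : Full K v) {g : Cfsg.GU n F q} (hg : g ∈ K) :
    Full K (g.1.1 *ᵥ v) := fun c hc A hA => by
  have h1 := hA.conj g⁻¹
  rw [GU_inv_mulVec, inv_inv] at h1
  have h2 := h c hc _ h1
  rw [show A = g * (g⁻¹ * A * g) * g⁻¹ by group]
  exact mul_mem (mul_mem hg h2) (inv_mem hg)

/-- Moving along a full centre. -/
theorem Full.move (hF : Fintype.card F = q ^ 2) {x s : Fin n → F} (hx : Full K x) (hs : Full K s)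
    (hs0 : hermForm n F q s s = 0) {t : F} (ht : t + t ^ q = 0) :
    Full K (x + (t * hermForm n F q x s) • s) := by
  obtain ⟨A, hA, -⟩ := exists_tv hF hs0 ht
  rw [← hA x]; exact hx.conj (hs t ht A hA)

/-- `W` is non-degenerate and all its isotropic vectors are full. -/
structure Good (K : Subgroup (Cfsg.GU n F q)) (W : Submodule F (Fin n → F)) : Prop where
  nondeg : Nondeg q W
  full : ∀ w ∈ W, hermForm n F q w w = 0 → Full K w

/-- The plane of two non-orthogonal full isotropic vectors. -/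
theorem good_plane (hF : Fintype.card F = q ^ 2) {a z : Fin n → F} (ha : Full K a) (hz : Full K z)
    (ha0 : hermForm n F q a a = 0) (hz0 : hermForm n F q z z = 0) (hb : hermForm n F q a z ≠ 0) :
    Good K (Submodule.span F {a, z}) := by
  set b := hermForm n F q a z with hbdef
  have hza : hermForm n F q z a = b ^ q := (herm_conj a z hF).symm
  constructor
  · intro u hu hv
    obtain ⟨α, β, rfl⟩ := Submodule.mem_span_pair.1 hu
    have h1 := hv z (Submodule.subset_span (by simp))
    have h2 := hv a (Submodule.subset_span (by simp))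
    simp only [herm_add_left, herm_smul_left, ha0, hz0, hza, mul_zero, add_zero, zero_add, ← hbdef,
      mul_eq_zero] at h1 h2
    have e1 : α = 0 := h1.resolve_right hb
    have e2 : β = 0 := h2.resolve_right (pow_ne_zero q hb)
    simp [e1, e2]
  · intro w hw hw0
    obtain ⟨α, β, rfl⟩ := Submodule.mem_span_pair.1 hw
    rcases eq_or_ne α 0 with rfl | hα
    · rw [zero_smul, zero_add]; exact hz.smul hF β
    simp only [herm_add_left, herm_add_right _ _ _ hF, herm_smul_left, herm_smul_right, ha0, hz0, hza,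
      ← hbdef, mul_zero, add_zero, zero_add] at hw0
    have hαq : α ^ q ≠ 0 := pow_ne_zero q hα
    have hbq : b ^ q ≠ 0 := pow_ne_zero q hb
    have ht : β / (α * b) + (β / (α * b)) ^ q = 0 := by
      rw [div_pow, mul_pow, div_add_div _ _ (mul_ne_zero hα hb) (mul_ne_zero hαq hbq), div_eq_zero_iff]
      left; linear_combination hw0
    have h := (ha.move hF hz hz0 ht).smul hF α
    rw [smul_add, smul_smul, ← hbdef] at h
    convert h using 3
    field_simp

/-- The combination of an orthonormal family. -/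
def emb {k : ℕ} (g : Fin k → Fin n → F) (v : Fin k → F) : Fin n → F := ∑ i, v i • g i

theorem herm_emb (hF : Fintype.card F = q ^ 2) {k : ℕ} {g : Fin k → Fin n → F}
    (hg : Orthonormal' q g) (v w : Fin k → F) :
    hermForm n F q (emb g v) (emb g w) = hermForm k F q v w := by
  rw [emb, emb, herm_sum_sum hF]
  simp only [hg _ _, mul_ite, mul_one, mul_zero, Finset.sum_ite_eq, Finset.mem_univ, if_true]
  rfl

theorem emb_add {k : ℕ} (g : Fin k → Fin n → F) (v w : Fin k → F) :
    emb g (v + w) = emb g v + emb g w := by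
  simp [emb, add_smul, Finset.sum_add_distrib]

theorem emb_smul {k : ℕ} (g : Fin k → Fin n → F) (a : F) (v : Fin k → F) :
    emb g (a • v) = a • emb g v := by
  simp [emb, Finset.smul_sum, smul_smul]

theorem exists_emb {k : ℕ} {g : Fin k → Fin n → F} {W : Submodule F (Fin n → F)}
    (hW : Submodule.span F (Set.range g) = W) {w : Fin n → F} (hw : w ∈ W) : ∃ v, emb g v = w := by
  rw [← hW] at hw
  exact (Submodule.mem_span_range_iff_exists_fun F).1 hw

theorem Good.exists_lift (hF : Fintype.card F = q ^ 2) {W : Submodule F (Fin n → F)} (hW : Good K W)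
    {k : ℕ} {g : Fin k → Fin n → F} (hg : Orthonormal' q g) (hgW : ∀ i, g i ∈ W)
    {t : Cfsg.GU k F q} (ht : t ∈ TGroup F q k) :
    ∃ T ∈ K, (∀ v, T.1.1 *ᵥ emb g v = emb g (t.1.1 *ᵥ v)) ∧
      ∀ p ∈ perp q W, T.1.1 *ᵥ p = p := by
  induction ht using Subgroup.closure_induction with
  | mem A h =>
    obtain ⟨v, c, hv, hc, hA⟩ := h
    have hiso : hermForm n F q (emb g v) (emb g v) = 0 := by rw [herm_emb hF hg]; exact hv
    have hmem : emb g v ∈ W := Submodule.sum_mem _ fun i _ => W.smul_mem _ (hgW i)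
    obtain ⟨B, hB, -⟩ := exists_tv hF hiso hc
    refine ⟨B, hW.full _ hmem hiso c hc B hB, fun w => ?_, fun p hp => hB.fix (mem_perp.1 hp _ hmem)⟩
    rw [hB, hA, herm_emb hF hg, emb_add, emb_smul]
  | one => exact ⟨1, one_mem K, fun v => by simp, fun p _ => by simp⟩
  | mul A B _ _ h1 h2 =>
    obtain ⟨S, hS, hS1, hS2⟩ := h1
    obtain ⟨T, hT, hT1, hT2⟩ := h2
    refine ⟨S * T, mul_mem hS hT, fun v => ?_, fun p hp => ?_⟩
    · rw [GU_mul_mulVec, hT1, hS1, GU_mul_mulVec]
    · rw [GU_mul_mulVec, hT2 p hp, hS2 p hp]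
  | inv A _ h =>
    obtain ⟨S, hS, hS1, hS2⟩ := h
    refine ⟨S⁻¹, inv_mem hS, fun v => ?_, fun p hp => ?_⟩
    · have e := hS1 (A⁻¹.1.1 *ᵥ v)
      rw [GU_mulVec_inv] at e
      rw [← e, GU_inv_mulVec]
    · have e := hS2 p hp
      conv_lhs => rw [← e]
      rw [GU_inv_mulVec]

/-- A determinant-one isometry moving a vector to another of the same nonzero norm. -/
theorem exists_det_one_move (hF : Fintype.card F = q ^ 2) {k : ℕ} (hk : 2 ≤ k) {v w : Fin k → F}
    (hvw : hermForm k F q v v = hermForm k F q w w) (hne : hermForm k F q v v ≠ 0) :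
    ∃ A : Cfsg.GU k F q, A.1.1.det = 1 ∧ A.1.1 *ᵥ v = w := by
  obtain ⟨x, hx⟩ := norm_surj hF (y := (hermForm k F q v v)⁻¹) (by rw [inv_pow, herm_self_fixed v hF])
  have hx0 : x ≠ 0 := fun h => hne (by simpa [h, eq_comm] using hx)
  have hs : ∀ y : Fin k → F, hermForm k F q y y = hermForm k F q v v →
      hermForm k F q (x • y) (x • y) = 1 := fun y hy => by
    rw [herm_smul_left, herm_smul_right, hy, ← mul_assoc, hx, inv_mul_cancel₀ hne]
  obtain ⟨A, hA⟩ := exists_GU_norm_one hF (hs v rfl) (hs w hvw.symm)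
  obtain ⟨g, hg, hgo⟩ := orthonormal_extend (k := 1) (l := k - 1) hF (by omega) (f := ![x • w])
    (fun i j => by fin_cases i; fin_cases j; simpa using hs w hvw.symm)
  let i0 : Fin (k - 1) := ⟨0, by omega⟩
  obtain ⟨B, hBdet, -, hBfix⟩ := exists_GU_scale hF (x := g i0) (by simpa using hg i0 i0)
    (inv_norm_one hF (det_norm_one hF A))
  have hA' : A.1.1 *ᵥ v = w := by
    have := congrArg (fun y => x⁻¹ • y) hA
    simpa [Matrix.mulVec_smul, smul_smul, inv_mul_cancel₀ hx0] using this
  refine ⟨B * A, ?_, ?_⟩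
  · simp only [Subgroup.coe_mul, Units.val_mul, Matrix.det_mul, hBdet]
    exact inv_mul_cancel₀ fun h0 => by simpa [h0] using det_norm_one hF A
  · rw [GU_mul_mulVec, hA', hBfix]
    have h1 := hgo i0 0
    simp only [Matrix.cons_val_zero, herm_smul_right, mul_eq_zero, pow_eq_zero_iff (q_ne_zero hF)] at h1
    exact herm_eq_zero_symm hF (h1.resolve_left hx0)

theorem mem_TGroup_of_eq_two (hF : Fintype.card F = q ^ 2) {k : ℕ} (hk : k = 2) (A : Cfsg.GU k F q)
    (hdet : A.1.1.det = 1) : A ∈ TGroup F q k := by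
  subst hk; exact mem_TGroup_two hF A hdet

/-- Transitivity of `K` on the vectors of a given norm in a good subspace. -/
theorem Good.move_norm (hF : Fintype.card F = q ^ 2) {W : Submodule F (Fin n → F)} (hW : Good K W)
    (hk : 2 ≤ finrank F W) (h32 : ¬ (finrank F W = 3 ∧ q = 2)) {w w' : Fin n → F}
    (hw : w ∈ W) (hw' : w' ∈ W) (he : hermForm n F q w w = hermForm n F q w' w')
    (hne : hermForm n F q w w ≠ 0) :
    ∃ T ∈ K, T.1.1 *ᵥ w = w' ∧ ∀ p ∈ perp q W, T.1.1 *ᵥ p = p := by
  obtain ⟨g, hg, hgW, hgs⟩ := exists_orthonormal_of_nondeg hF _ W rfl hW.nondeg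
  obtain ⟨v, rfl⟩ := exists_emb hgs hw
  obtain ⟨v', rfl⟩ := exists_emb hgs hw'
  rw [herm_emb hF hg, herm_emb hF hg] at he
  rw [herm_emb hF hg] at hne
  obtain ⟨A, hdet, hA⟩ := exists_det_one_move hF hk he hne
  have hT : A ∈ TGroup F q (finrank F W) := by
    rcases lt_or_ge (finrank F W) 3 with h | h
    · exact mem_TGroup_of_eq_two hF (by omega) A hdet
    · exact mem_TGroup hF h h32 A hdet
  obtain ⟨T, hT, hT1, hT2⟩ := hW.exists_lift hF hg hgW hT
  exact ⟨T, hT, by rw [hT1, hA], hT2⟩

/-- Adjoining a non-isotropic orthogonal direction which carries a full centre. -/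
theorem Good.grow (hF : Fintype.card F = q ^ 2) {W : Submodule F (Fin n → F)} (hW : Good K W)
    (hk : 2 ≤ finrank F W) (h32 : ¬ (finrank F W = 3 ∧ q = 2)) {p w : Fin n → F}
    (hw : w ∈ W) (hp : p ∈ perp q W) (hN : hermForm n F q p p ≠ 0)
    (hiso : hermForm n F q (p + w) (p + w) = 0) (hfull : Full K (p + w)) :
    Good K (W ⊔ Submodule.span F {p}) ∧ finrank F ↥(W ⊔ Submodule.span F {p}) = finrank F W + 1 := by
  have hperp : ∀ x ∈ W, hermForm n F q p x = 0 := mem_perp.1 hp
  have hperp' : ∀ x ∈ W, hermForm n F q x p = 0 := fun x hx => herm_eq_zero_symm hF (hperp x hx)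
  have hmem : ∀ y ∈ W ⊔ Submodule.span F {p}, ∃ x ∈ W, ∃ l : F, y = x + l • p := by
    intro y hy
    obtain ⟨x, hx, z, hz, rfl⟩ := Submodule.mem_sup.1 hy
    obtain ⟨l, rfl⟩ := Submodule.mem_span_singleton.1 hz
    exact ⟨x, hx, l, rfl⟩
  refine ⟨⟨fun y hy hv => ?_, fun y hy hy0 => ?_⟩, ?_⟩
  · obtain ⟨x, hx, l, rfl⟩ := hmem y hy
    have h1 := hv p (Submodule.mem_sup_right (Submodule.mem_span_singleton_self p))
    simp only [herm_add_left, herm_smul_left, hperp' x hx, zero_add, mul_eq_zero, hN, or_false] at h1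
    subst h1
    rw [zero_smul, add_zero]
    refine hW.nondeg x hx fun v hv' => ?_
    have := hv v (Submodule.mem_sup_left hv')
    simpa using this
  · obtain ⟨x, hx, l, rfl⟩ := hmem y hy
    rcases eq_or_ne l 0 with rfl | hl
    · rw [zero_smul, add_zero] at hy0 ⊢; exact hW.full x hx hy0
    have hx' : l⁻¹ • x ∈ W := W.smul_mem _ hx
    have e : hermForm n F q (l⁻¹ • x) (l⁻¹ • x) = hermForm n F q w w := by
      have h0 : hermForm n F q (l⁻¹ • (x + l • p)) (l⁻¹ • (x + l • p)) = 0 := by
        rw [herm_smul_left, herm_smul_right, hy0, mul_zero, mul_zero]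
      rw [smul_add, smul_smul, inv_mul_cancel₀ hl, one_smul, herm_add_left, herm_add_right _ _ _ hF,
        herm_add_right _ _ _ hF, hperp' _ hx', hperp _ hx'] at h0
      rw [herm_add_left, herm_add_right _ _ _ hF, herm_add_right _ _ _ hF, hperp _ hw, hperp' _ hw] at hiso
      linear_combination h0 - hiso
    have hwne : hermForm n F q w w ≠ 0 := by
      rw [herm_add_left, herm_add_right _ _ _ hF, herm_add_right _ _ _ hF, hperp _ hw, hperp' _ hw] at hiso
      intro h; rw [h] at hiso; exact hN (by linear_combination hiso)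
    obtain ⟨T, hT, hTw, hTp⟩ := hW.move_norm hF hk h32 hw hx' e.symm hwne
    have h := (hfull.conj hT).smul hF l
    rwa [Matrix.mulVec_add, hTw, hTp p hp, smul_add, smul_smul, mul_inv_cancel₀ hl, one_smul,
      add_comm] at h
  · have hp0 : p ≠ 0 := fun h => hN (by rw [h, herm_zero_left])
    have h := Submodule.finrank_sup_add_finrank_inf_eq W (Submodule.span F {p})
    have hinf : W ⊓ Submodule.span F {p} = ⊥ := by
      rw [Submodule.eq_bot_iff]
      rintro y ⟨hy1, hy2⟩
      obtain ⟨l, rfl⟩ := Submodule.mem_span_singleton.1 hy2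
      have := hperp' _ hy1
      rw [herm_smul_left, mul_eq_zero] at this
      rw [this.resolve_right hN, zero_smul]
    rw [hinf, finrank_bot, add_zero, finrank_span_singleton hp0] at h
    exact h

/-- All isotropic vectors full: `K` contains `TGroup`. -/
theorem TGroup_le_of_full (h : ∀ v : Fin n → F, hermForm n F q v v = 0 → Full K v) : TGroup F q n ≤ K :=
  (Subgroup.closure_le K).2 fun A ⟨v, c, hv, hc, hA⟩ => h v hv c hc A hA

theorem TGroup_le_of_good {W : Submodule F (Fin n → F)} (hW : Good K W) (hk : finrank F W = n) :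
    TGroup F q n ≤ K := by
  have : W = ⊤ := Submodule.eq_top_of_finrank_eq (by rw [finrank_fin_fun]; exact hk)
  exact TGroup_le_of_full fun v hv => hW.full v (by rw [this]; trivial) hv

/-- Back to `SU`. -/
theorem closure_eq_top_of_TGroup_le (hF : Fintype.card F = q ^ 2) (hn : 3 ≤ n)
    (h32 : ¬ (n = 3 ∧ q = 2)) {S : Set (Cfsg.SU n F q)}
    (h : TGroup F q n ≤ (Subgroup.closure S).map (suToGU n F q)) : Subgroup.closure S = ⊤ := by
  refine eq_top_iff.2 fun A _ => ?_
  obtain ⟨X, hX, hXA⟩ := h (mem_TGroup hF hn h32 (suToGU n F q A) (by simpa using A.1.2))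
  rwa [← suToGU_injective hXA]

end Cfsg.Agent.Lib.GenSU
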