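import Cfsg.Agent.Lib.GenSU.Full
import Cfsg.Agent.Lib.RegularUnipotentSU52

/-! The frame of a regular unipotent of `SU 3` and the criterion for two conjugates to generate. -/

set_option autoImplicit false
set_option linter.unusedSectionVars false

namespace Cfsg.Agent.Lib.GenSU

open Matrix Module Cfsg.Agent.Lib.Unitary

variable {F : Type*} [Field F] [Fintype F] {q : ℕ}

/-- A frame `o, w, e` of the regular unipotent `u`. -/
structure Frame (u : Cfsg.GU 3 F q) (o w e : Fin 3 → F) (β a : F) : Prop where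
  card : Fintype.card F = q ^ 2
  uo : u.1.1 *ᵥ o = o + w
  uw : u.1.1 *ᵥ w = w + e
  ue : u.1.1 *ᵥ e = e
  det : u.1.1.det = 1
  oo : hermForm 3 F q o o = 0
  ow : hermForm 3 F q o w = a
  oe : hermForm 3 F q o e = β
  ww : hermForm 3 F q w w = -β
  we : hermForm 3 F q w e = 0
  ee : hermForm 3 F q e e = 0
  β_ne : β ≠ 0
  β_fix : β ^ q = β
  a_tr : a + a ^ q = β
  indep : LinearIndependent F ![o, w, e]

theorem exists_frame (hF : Fintype.card F = q ^ 2) :
    ∃ (u : Cfsg.GU 3 F q) (o w e : Fin 3 → F) (β a : F), Frame u o w e β a := by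
  classical
  obtain ⟨u, ⟨hn, hr⟩, hdet⟩ := RegularUnipotentSU52.exists_regUnip hF (n := 3) (by norm_num)
  obtain ⟨o, ho⟩ := RegularUnipotentMatrix.exists_cyclicVec
    (u := u.1.1) ⟨hn, hr⟩ (by norm_num)
  set N := u.1.1 - 1 with hN
  set w := N *ᵥ o with hw
  set e := N *ᵥ w with he
  have he0 : e ≠ 0 := by
    rwa [he, hw, mulVec_mulVec, ← pow_two]
  have hNe : N *ᵥ e = 0 := by
    rw [he, hw, mulVec_mulVec, mulVec_mulVec, mul_assoc, show N * (N * N) = N ^ 3 from by rw [pow_succ', pow_two],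
      hn, zero_mulVec]
  have happ : ∀ x, u.1.1 *ᵥ x = x + N *ᵥ x := fun x => by
    rw [hN, sub_mulVec, one_mulVec, add_sub_cancel]
  have huw : u.1.1 *ᵥ w = w + e := happ w
  have hue : u.1.1 *ᵥ e = e := by rw [happ, hNe, add_zero]
  have huo : u.1.1 *ᵥ o = o + w := happ o
  have hdet' : u.1.1.det = 1 := by simpa using congrArg Units.val hdet
  have hee : hermForm 3 F q e e = 0 := by
    have h := GU_herm w e u
    rw [huw, hue, herm_add_left] at h
    linear_combination h
  have hwe : hermForm 3 F q w e = 0 := by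
    have h := GU_herm o e u
    rw [huo, hue, herm_add_left] at h
    linear_combination h
  set β := hermForm 3 F q o e with hβ
  have hww : hermForm 3 F q w w = -β := by
    have h := GU_herm o w u
    rw [huo, huw, herm_add_left, herm_add_right _ _ _ hF, herm_add_right _ _ _ hF, hwe, ← hβ] at h
    linear_combination h
  have hβfix : β ^ q = β := by
    have := herm_self_fixed w hF (n := 3)
    rw [hww, neg_pow_q hF] at this
    exact neg_inj.1 this
  have hli : LinearIndependent F ![o, w, e] := by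
    rw [Fintype.linearIndependent_iff]
    intro c hc
    simp only [Fin.sum_univ_three, Matrix.cons_val_zero, Matrix.cons_val_one, Matrix.cons_val] at hc
    have h1 : c 0 • w + c 1 • e = 0 := by
      have := congrArg (N *ᵥ ·) hc
      simpa [mulVec_add, mulVec_smul, ← hw, ← he, hNe] using this
    have h2 : c 0 • e = 0 := by
      have := congrArg (N *ᵥ ·) h1
      simpa [mulVec_add, mulVec_smul, ← he, hNe] using this
    have e0 : c 0 = 0 := (smul_eq_zero.1 h2).resolve_right he0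
    rw [e0, zero_smul, zero_add] at h1
    have e1 : c 1 = 0 := (smul_eq_zero.1 h1).resolve_right he0
    rw [e0, e1, zero_smul, zero_smul, zero_add, zero_add] at hc
    intro i; fin_cases i
    · exact e0
    · exact e1
    · exact (smul_eq_zero.1 hc).resolve_right he0
  have hβ0 : β ≠ 0 := by
    intro h0
    have hsp : Submodule.span F (Set.range ![o, w, e]) = ⊤ :=
      hli.span_eq_top_of_card_eq_finrank' (by simp)
    refine he0 (herm_nondeg_left hF fun v => ?_)
    obtain ⟨c, rfl⟩ := (Submodule.mem_span_range_iff_exists_fun F).1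
      (show v ∈ Submodule.span F (Set.range ![o, w, e]) by rw [hsp]; trivial)
    have h1 : hermForm 3 F q e o = 0 := herm_eq_zero_symm hF h0
    simp [herm_sum_right _ hF, Fin.sum_univ_three, herm_add_right _ _ _ hF, herm_smul_right, h1, hee,
      herm_eq_zero_symm hF hwe]
  obtain ⟨C, hC⟩ := trace_surj hF (y := -hermForm 3 F q o o / β)
    (by rw [div_pow, neg_pow_q hF, herm_self_fixed o hF, hβfix])
  refine ⟨u, o + C • e, w, e, β, hermForm 3 F q (o + C • e) w, hF, ?_, huw, hue, hdet', ?_, rfl, ?_, hww, hwe,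
    hee, hβ0, hβfix, ?_, ?_⟩
  · rw [mulVec_add, mulVec_smul, huo, hue]; abel
  · simp only [herm_add_left, herm_add_right _ _ _ hF, herm_smul_left, herm_smul_right, hee, ← hβ,
      show hermForm 3 F q e o = β by rw [← herm_conj o e hF, ← hβ, hβfix], mul_zero, add_zero]
    rw [eq_div_iff hβ0] at hC
    linear_combination hC
  · rw [herm_add_left, herm_smul_left, hee, mul_zero, add_zero]
  · have h := GU_herm o o u
    rw [huo, herm_add_left, herm_add_right _ _ _ hF, herm_add_right _ _ _ hF, hww, ← herm_conj o w hF] at h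
    have hew : hermForm 3 F q e w = 0 := herm_eq_zero_symm hF hwe
    rw [herm_add_left, herm_smul_left, hew, mul_zero, add_zero]
    linear_combination h
  · have h2 := hli
    rw [Fintype.linearIndependent_iff] at h2 ⊢
    intro c hc
    have := h2 ![c 0, c 1, c 2 + c 0 * C] (by
      rw [← hc]; simp [Fin.sum_univ_three, smul_smul, add_smul]; abel)
    intro i
    have e0 : c 0 = 0 := by simpa using this 0
    fin_cases i
    · exact e0
    · simpa using this 1
    · simpa [e0] using this 2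

variable {u : Cfsg.GU 3 F q} {o w e : Fin 3 → F} {β a : F}

/-- The vector with given coordinates. -/
def vec (o w e : Fin 3 → F) (A B C : F) : Fin 3 → F := A • o + B • w + C • e

theorem Frame.exists_vec (hf : Frame u o w e β a) (x : Fin 3 → F) : ∃ A B C, x = vec o w e A B C := by
  have hsp : Submodule.span F (Set.range ![o, w, e]) = ⊤ :=
    hf.indep.span_eq_top_of_card_eq_finrank' (by simp)
  obtain ⟨c, hc⟩ := (Submodule.mem_span_range_iff_exists_fun F).1
    (show x ∈ Submodule.span F (Set.range ![o, w, e]) by rw [hsp]; trivial)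
  exact ⟨c 0, c 1, c 2, by rw [← hc, vec, Fin.sum_univ_three]; simp⟩

theorem Frame.herm (hf : Frame u o w e β a) (A B C A' B' C' : F) :
    hermForm 3 F q (vec o w e A B C) (vec o w e A' B' C') =
      A * B' ^ q * a + A * C' ^ q * β + B * A' ^ q * a ^ q - B * B' ^ q * β + C * A' ^ q * β := by
  have hF := hf.card
  have h1 : hermForm 3 F q w o = a ^ q := by rw [← herm_conj o w hF, hf.ow]
  have h2 : hermForm 3 F q e o = β := by rw [← herm_conj o e hF, hf.oe, hf.β_fix]
  simp only [vec, herm_add_left, herm_add_right _ _ _ hF, herm_smul_left, herm_smul_right, hf.oo, hf.ow,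
    hf.oe, hf.ww, hf.we, hf.ee, h1, h2, herm_eq_zero_symm hF hf.we]
  ring

theorem Frame.herm_e (hf : Frame u o w e β a) (A B C : F) :
    hermForm 3 F q (vec o w e A B C) e = A * β := by
  have := hf.herm A B C 0 0 1
  rw [show vec o w e (0 : F) 0 1 = e by simp [vec], zero_pow_q hf.card, one_pow] at this
  rw [this]; ring

theorem Frame.u_vec (hf : Frame u o w e β a) (A B C : F) :
    u.1.1 *ᵥ vec o w e A B C = vec o w e A (A + B) (B + C) := by
  simp only [vec, mulVec_add, mulVec_smul, hf.uo, hf.uw, hf.ue, smul_add, add_smul]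
  abel

theorem Frame.uinv_vec (hf : Frame u o w e β a) (A B C : F) :
    u⁻¹.1.1 *ᵥ vec o w e A B C = vec o w e A (B - A) (C - B + A) := by
  have h := hf.u_vec A (B - A) (C - B + A)
  rw [show A + (B - A) = B by ring, show B - A + (C - B + A) = C by ring] at h
  rw [← h, GU_inv_mulVec]

/-- Isotropic vectors with a prescribed product with their image. -/
theorem Frame.exists_iso (hf : Frame u o w e β a) {δ : F} (hδ : δ + δ ^ q ≠ 0) :
    ∃ A B C : F, A ≠ 0 ∧ hermForm 3 F q (vec o w e A B C) (vec o w e A B C) = 0 ∧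
      hermForm 3 F q (vec o w e A B C) (u.1.1 *ᵥ vec o w e A B C) = δ ∧ A * A ^ q * β = δ + δ ^ q := by
  have hF := hf.card
  have hβ := hf.β_ne
  obtain ⟨A, hA⟩ := norm_surj hF (y := (δ + δ ^ q) / β)
    (by rw [div_pow, add_pow_q hF, pow_q_q hF, hf.β_fix, add_comm])
  have hA0 : A ≠ 0 := fun h => by
    rw [h, zero_mul] at hA
    exact hδ ((div_eq_zero_iff.1 hA.symm).resolve_right hβ)
  rw [eq_div_iff hβ] at hA
  obtain ⟨ξ, hξ⟩ := trace_surj hF (y := (1 : F)) (one_pow q)
  set R := δ - A * A ^ q * a with hR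
  have hRq : R ^ q = -R := by
    rw [hR, sub_pow_q hF, mul_pow, mul_pow, pow_q_q hF]
    linear_combination -1 * hA - (A * A ^ q) * hf.a_tr + (A * A ^ q) * 0
  set B := (ξ * R / (β * A)) ^ q with hB
  have hBq : B ^ q = ξ * R / (β * A) := pow_q_q hF _
  obtain ⟨η, hη⟩ := trace_surj hF (y := -(hermForm 3 F q (vec o w e A B 0) (vec o w e A B 0)))
    (by rw [neg_pow_q hF, herm_self_fixed _ hF])
  set C := (η / (A * β)) ^ q with hC
  have hCq : C ^ q = η / (A * β) := pow_q_q hF _
  have hiso : hermForm 3 F q (vec o w e A B C) (vec o w e A B C) = 0 := by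
    rw [hf.herm, hCq, hC, div_pow, mul_pow, hf.β_fix]
    rw [hf.herm, zero_pow_q hF] at hη
    have hAq : A ^ q ≠ 0 := pow_ne_zero q hA0
    field_simp
    linear_combination hη
  refine ⟨A, B, C, hA0, hiso, ?_, hA⟩
  rw [hf.u_vec, hf.herm, add_pow_q hF, add_pow_q hF]
  rw [hf.herm] at hiso
  have h1 : A * B ^ q * β = ξ * R := by rw [hBq]; field_simp
  have h2 : B * A ^ q * β = ξ ^ q * R ^ q := by
    rw [hB, div_pow, mul_pow, mul_pow, hf.β_fix]
    field_simp
  linear_combination hiso + h1 - h2 - ξ ^ q * hRq + R * hξ + hR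

/-- `g` fixes `e` and shifts `w` by `s e`. -/
def Rad (w e : Fin 3 → F) (g : Cfsg.GU 3 F q) (s : F) : Prop :=
  g.1.1 *ᵥ e = e ∧ g.1.1 *ᵥ w = w + s • e

theorem Rad.image (hf : Frame u o w e β a) {g : Cfsg.GU 3 F q} {s : F} (hg : Rad w e g s) :
    ∃ b, g.1.1 *ᵥ o = vec o w e 1 (s ^ q) b := by
  have hF := hf.card
  obtain ⟨A, B, C, h⟩ := hf.exists_vec (g.1.1 *ᵥ o)
  have h1 := GU_herm o e g
  rw [h, hg.1, hf.herm_e, hf.oe] at h1
  have hA : A = 1 := mul_right_cancel₀ hf.β_ne (h1.trans (one_mul β).symm)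
  subst hA
  have h2 := GU_herm o w g
  rw [h, hg.2, show w + s • e = vec o w e 0 1 s by simp [vec], hf.herm, hf.ow, one_pow, zero_pow_q hF] at h2
  have hB : B = s ^ q := mul_right_cancel₀ hf.β_ne (by linear_combination -h2)
  exact ⟨C, by rw [h, hB]⟩

theorem Rad.mul {g₁ g₂ : Cfsg.GU 3 F q} {s₁ s₂ : F} (hg : Rad w e g₁ s₁) (hg' : Rad w e g₂ s₂) :
    Rad w e (g₁ * g₂) (s₁ + s₂) := by
  refine ⟨by rw [GU_mul_mulVec, hg'.1, hg.1], ?_⟩
  rw [GU_mul_mulVec, hg'.2, mulVec_add, mulVec_smul, hg.1, hg.2, add_smul, add_assoc]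

theorem Rad.inv {g : Cfsg.GU 3 F q} {s : F} (hg : Rad w e g s) : Rad w e g⁻¹ (-s) := by
  have h1 : g⁻¹.1.1 *ᵥ e = e := by conv_lhs => rw [← hg.1, GU_inv_mulVec]
  refine ⟨h1, ?_⟩
  have h := congrArg (fun x => g⁻¹.1.1 *ᵥ x) hg.2
  simp only [GU_inv_mulVec, mulVec_add, mulVec_smul, h1] at h
  rw [neg_smul, ← sub_eq_add_neg, eq_sub_iff_add_eq]
  exact h.symm

theorem Rad.self (hf : Frame u o w e β a) : Rad w e u 1 := ⟨hf.ue, by rw [hf.uw, one_smul]⟩

/-- The shifts realised in `K`. -/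
def shifts (K : Subgroup (Cfsg.GU 3 F q)) (w e : Fin 3 → F) : AddSubgroup F where
  carrier := {s | ∃ g ∈ K, Rad w e g s}
  zero_mem' := ⟨1, one_mem K, by simp, by simp⟩
  add_mem' := fun ⟨g, hg, h⟩ ⟨g', hg', h'⟩ => ⟨g * g', mul_mem hg hg', h.mul h'⟩
  neg_mem' := fun ⟨g, hg, h⟩ => ⟨g⁻¹, inv_mem hg, h.inv⟩

/-- The transvection parameters realised in `K`. -/
def TvMem (K : Subgroup (Cfsg.GU 3 F q)) (e : Fin 3 → F) (c : F) : Prop :=
  ∃ A ∈ K, IsTvAt e c A

/-- An element fixing `w` and `e` is a transvection. -/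
theorem tv_of_fix (hf : Frame u o w e β a) {Z : Cfsg.GU 3 F q} {d : F} (he : Z.1.1 *ᵥ e = e)
    (hw : Z.1.1 *ᵥ w = w) (ho : Z.1.1 *ᵥ o = o + d • e) : IsTvAt e (d / β) Z := by
  intro x
  obtain ⟨A, B, C, rfl⟩ := hf.exists_vec x
  have hβ := hf.β_ne
  rw [hf.herm_e, show d / β * (A * β) = A * d by field_simp]
  simp only [vec, mulVec_add, mulVec_smul, he, hw, ho, smul_add, smul_smul]
  abel

/-- Commutators of radical elements give transvections. -/
theorem tvMem_comm (hf : Frame u o w e β a) {K : Subgroup (Cfsg.GU 3 F q)} {s t : F}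
    (hs : s ∈ shifts K w e) (ht : t ∈ shifts K w e) : TvMem K e ((t ^ q * s - s ^ q * t) / β) := by
  obtain ⟨g, hgK, hg⟩ := hs
  obtain ⟨g', hgK', hg'⟩ := ht
  obtain ⟨b, hb⟩ := hg.image hf
  obtain ⟨b', hb'⟩ := hg'.image hf
  have h12 : (g * g').1.1 *ᵥ o = vec o w e 1 (s ^ q + t ^ q) (b + b' + t ^ q * s) := by
    rw [GU_mul_mulVec, hb']
    simp only [vec, mulVec_add, mulVec_smul, hb, hg.1, hg.2, one_smul, add_smul, smul_add, smul_smul]
    abel
  have h21 : (g' * g).1.1 *ᵥ o = vec o w e 1 (t ^ q + s ^ q) (b' + b + s ^ q * t) := by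
    rw [GU_mul_mulVec, hb]
    simp only [vec, mulVec_add, mulVec_smul, hb', hg'.1, hg'.2, one_smul, add_smul, smul_add, smul_smul]
    abel
  refine ⟨g * g' * (g' * g)⁻¹, mul_mem (mul_mem hgK hgK') (inv_mem (mul_mem hgK' hgK)), ?_⟩
  set Z := g * g' * (g' * g)⁻¹
  have hZ : Rad w e Z (s + t + -(t + s)) := (hg.mul hg').mul (hg'.mul hg).inv
  have hZw : Z.1.1 *ᵥ w = w := by
    rw [hZ.2, show s + t + -(t + s) = 0 by ring, zero_smul, add_zero]
  refine tv_of_fix hf hZ.1 hZw ?_
  have h : Z.1.1 *ᵥ ((g' * g).1.1 *ᵥ o) = (g * g').1.1 *ᵥ o := by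
    rw [← GU_mul_mulVec, inv_mul_cancel_right]
  rw [h12, h21] at h
  simp only [vec, mulVec_add, mulVec_smul, hZ.1, hZw, one_smul, add_assoc] at h
  rw [← eq_sub_iff_add_eq] at h
  rw [h]
  module

/-- Conjugation by an element of the Borel subgroup at `e`. -/
theorem Rad.conj (hf : Frame u o w e β a) {C : Cfsg.GU 3 F q} {l : F} (hl : l ≠ 0)
    (hC : C.1.1 *ᵥ e = l • e) (hdet : C.1.1.det = 1) {g : Cfsg.GU 3 F q} {s : F} (hg : Rad w e g s) :
    Rad w e (C * g * C⁻¹) (l ^ 2 / l ^ q * s) := by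
  have hF := hf.card
  have hlq : l ^ q ≠ 0 := pow_ne_zero q hl
  obtain ⟨A0, B0, C0, hw0⟩ := hf.exists_vec (C.1.1 *ᵥ w)
  obtain ⟨A1, B1, C1, ho1⟩ := hf.exists_vec (C.1.1 *ᵥ o)
  have hA0 : A0 = 0 := by
    have h := GU_herm w e C
    rw [hw0, hC, herm_smul_right, hf.herm_e, hf.we] at h
    simpa [hlq, hf.β_ne] using h
  subst hA0
  have hA1 : A1 * l ^ q = 1 := by
    have h := GU_herm o e C
    rw [ho1, hC, herm_smul_right, hf.herm_e, hf.oe] at h
    exact mul_right_cancel₀ hf.β_ne (by linear_combination h)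
  set P : Matrix (Fin 3) (Fin 3) F := Matrix.of fun i j => ![o, w, e] j i with hP
  have hPX : ∀ X : Matrix (Fin 3) (Fin 3) F, ∀ i j, (P * X) i j = vec o w e (X 0 j) (X 1 j) (X 2 j) i := by
    intro X i j
    simp [hP, vec, Matrix.mul_apply, Fin.sum_univ_three]; ring
  have hP0 : P.det ≠ 0 := by
    rw [← isUnit_iff_ne_zero, ← Matrix.isUnit_iff_isUnit_det]
    exact Matrix.linearIndependent_cols_iff_isUnit.1 hf.indep
  have hCP : C.1.1 * P = P * !![A1, 0, 0; B1, B0, 0; C1, C0, l] := by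
    ext i j
    rw [hPX]
    have : (C.1.1 * P) i j = (C.1.1 *ᵥ ![o, w, e] j) i := by simp [hP, Matrix.mul_apply, mulVec, dotProduct]
    rw [this]
    fin_cases j <;> simp [hw0, ho1, hC, vec]
  have hB0 : A1 * B0 * l = 1 := by
    have h := congrArg Matrix.det hCP
    rw [Matrix.det_mul, Matrix.det_mul, hdet, one_mul, Matrix.det_fin_three (!![A1, 0, 0; B1, B0, 0; C1, C0, l])] at h
    simp at h
    exact mul_left_cancel₀ hP0 (by linear_combination -h)
  have hB0' : B0 = l ^ q / l := by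
    field_simp
    linear_combination (l ^ q) * hB0 - (B0 * l) * hA1
  have hw1 : C.1.1 *ᵥ w = B0 • w + C0 • e := by rw [hw0, vec, zero_smul, zero_add]
  have he' : (C * g * C⁻¹).1.1 *ᵥ e = e := by
    have : C⁻¹.1.1 *ᵥ e = l⁻¹ • e := by
      have h := congrArg (fun x => C⁻¹.1.1 *ᵥ x) hC
      simp only [GU_inv_mulVec, mulVec_smul] at h
      conv_rhs => rw [h, smul_smul, inv_mul_cancel₀ hl, one_smul]
    rw [GU_mul_mulVec, GU_mul_mulVec, this, mulVec_smul, hg.1, mulVec_smul, hC, smul_smul, inv_mul_cancel₀ hl,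
      one_smul]
  refine ⟨he', ?_⟩
  have h : (C * g * C⁻¹).1.1 *ᵥ (B0 • w + C0 • e) = B0 • w + C0 • e + (s * l) • e := by
    rw [← hw1, GU_mul_mulVec, GU_inv_mulVec, GU_mul_mulVec, hg.2, mulVec_add, mulVec_smul, hC, smul_smul]
  rw [mulVec_add, mulVec_smul, mulVec_smul, he', add_right_comm, add_left_inj] at h
  have hB : B0 ≠ 0 := by rw [hB0']; exact div_ne_zero hlq hl
  have h' := congrArg (fun x => B0⁻¹ • x) h
  simp only [smul_add, smul_smul, inv_mul_cancel₀ hB, one_smul] at h'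
  rw [h', hB0']
  congr 2
  field_simp

theorem finrank_plane (hF : Fintype.card F = q ^ 2) {n : ℕ} {x y : Fin n → F} (hx : hermForm n F q x x = 0)
    (hy : hermForm n F q y y = 0) (hxy : hermForm n F q x y ≠ 0) :
    finrank F (Submodule.span F {x, y}) = 2 := by
  set b := hermForm n F q x y
  have hh : Hyp q x ((b ^ q)⁻¹ • y) := by
    refine ⟨hx, ?_, ?_⟩
    · rw [herm_smul_left, herm_smul_right, hy, mul_zero, mul_zero]
    · rw [herm_smul_right, inv_pow, pow_q_q hF, inv_mul_cancel₀ hxy]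
  have e : Submodule.span F {x, y} = Submodule.span F {x, (b ^ q)⁻¹ • y} := by
    rw [Submodule.span_insert, Submodule.span_insert,
      Submodule.span_singleton_smul_eq (isUnit_iff_ne_zero.2 (inv_ne_zero (pow_ne_zero q hxy)))]
  rw [e, (hh.finrank_span hF).2]

/-- The criterion. -/
theorem TGroup_le_three (hf : Frame u o w e β a) {K : Subgroup (Cfsg.GU 3 F q)} {v : Cfsg.GU 3 F q}
    (hu : u ∈ K) (hv : v ∈ K) (he : Full K e) (hne : hermForm 3 F q (v.1.1 *ᵥ e) e ≠ 0) :
    TGroup F q 3 ≤ K := by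
  have hF := hf.card
  obtain ⟨A, B, C, h1⟩ := hf.exists_vec (v.1.1 *ᵥ e)
  have hA : A ≠ 0 := fun h => hne (by rw [h1, hf.herm_e, h, zero_mul])
  set e1 := v.1.1 *ᵥ e with he1
  set e2 := u.1.1 *ᵥ e1 with he2
  have i1 : hermForm 3 F q e1 e1 = 0 := by rw [he1, GU_herm, hf.ee]
  have i2 : hermForm 3 F q e2 e2 = 0 := by rw [he2, GU_herm, i1]
  have h10 : hermForm 3 F q e1 e = A * β := by rw [h1, hf.herm_e]
  have h01 : hermForm 3 F q e e1 = A ^ q * β := by
    rw [← herm_conj e1 e hF, h10, mul_pow, hf.β_fix]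
  have h20 : hermForm 3 F q e2 e = A * β := by rw [he2, h1, hf.u_vec, hf.herm_e]
  have h02 : hermForm 3 F q e e2 = A ^ q * β := by
    rw [← herm_conj e2 e hF, h20, mul_pow, hf.β_fix]
  set δ := hermForm 3 F q e1 e2 with hδ
  have h21 : hermForm 3 F q e2 e1 = δ ^ q := (herm_conj e1 e2 hF).symm
  have hδt : δ + δ ^ q = A * A ^ q * β := by
    have i1' := i1
    rw [h1, hf.herm] at i1'
    rw [hδ, he2, h1, hf.u_vec, hf.herm]
    simp only [add_pow_q hF, sub_pow_q hF, mul_pow, pow_q_q hF, hf.β_fix]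
    linear_combination 2 * i1' + (A * A ^ q) * hf.a_tr
  have hnq : A ^ q * β ≠ 0 := mul_ne_zero (pow_ne_zero q hA) hf.β_ne
  have hW := good_plane hF he (he.conj hv) hf.ee i1 (by rw [h01]; exact hnq)
  have hk := finrank_plane hF hf.ee i1 (by rw [h01]; exact hnq)
  set α := δ ^ q / (A ^ q * β) with hα
  have hα' : α * (A ^ q * β) = δ ^ q := div_mul_cancel₀ _ hnq
  have hp : e2 - (α • e + e1) ∈ perp q (Submodule.span F {e, e1}) := by
    rw [mem_perp_span hF]
    simp only [Set.forall_mem_insert, Set.mem_singleton_iff, forall_eq, herm_sub_left, herm_add_left,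
      herm_smul_left, hf.ee, h20, h10, i1, h01, h21, hα']
    exact ⟨by ring, by ring⟩
  have hN : hermForm 3 F q (e2 - (α • e + e1)) (e2 - (α • e + e1)) ≠ 0 := by
    simp only [herm_sub_left, herm_sub_right _ _ _ hF, herm_add_left, herm_add_right _ _ _ hF, herm_smul_left,
      herm_smul_right, hf.ee, i1, i2, h20, h10, h02, h01, h21, ← hδ]
    intro h
    refine mul_ne_zero (mul_ne_zero hA (pow_ne_zero q hA)) hf.β_ne ?_
    rw [← hδt]
    linear_combination -h
  obtain ⟨hW', hk'⟩ := hW.grow hF (by rw [hk]) (by rw [hk]; omega)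
    (Submodule.add_mem _ (Submodule.smul_mem _ _ (Submodule.subset_span (Set.mem_insert e _)))
      (Submodule.subset_span (Set.mem_insert_of_mem e (Set.mem_singleton e1)))) hp hN (by rw [sub_add_cancel]; exact i2)
    (by rw [sub_add_cancel]; exact (he.conj hv).conj hu)
  exact TGroup_le_of_good hW' (by rw [hk', hk])

end Cfsg.Agent.Lib.GenSU
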