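import Cfsg.Agent.Lib.GenSU.ThreeFive

/-! Two conjugate regular unipotents of `SU 3`, `q = 8`: an explicit pair over `ζ`, `ζ ^ 9 = 1`. -/

set_option autoImplicit false
set_option linter.unusedSectionVars false
set_option linter.unusedVariables false

namespace Cfsg.Agent.Lib.GenSU

open Matrix Module Cfsg.Agent.Lib.Unitary

variable {F : Type*} [Field F] [Fintype F] {q : ℕ}
variable {u : Cfsg.GU 3 F q} {o w e : Fin 3 → F} {β a : F}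

theorem vec_ext {A B C A' B' C' : F} (h0 : A = A') (h1 : B = B') (h2 : C = C') :
    vec o w e A B C = vec o w e A' B' C' := by rw [h0, h1, h2]

/-- The eighth-power frame. -/
theorem exists_zeta_eight (hF : Fintype.card F = 8 ^ 2) :
    ∃ ζ : F, ζ ^ 6 + ζ ^ 3 + 1 = 0 ∧ (2 : F) = 0 := by
  classical
  have h2 : (2 : F) = 0 := by
    have h := Nat.cast_card_eq_zero F
    rw [hF] at h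
    push_cast at h
    exact (pow_eq_zero_iff (show 6 ≠ 0 by norm_num)).1 (by linear_combination h)
  obtain ⟨g, hg⟩ := IsCyclic.exists_ofOrder_eq_natCard (α := Fˣ)
  rw [Nat.card_units, Nat.card_eq_fintype_card, hF] at hg
  have h9 : orderOf (g ^ 7) = 9 := by
    rw [orderOf_pow, hg]; norm_num
  set ζ : F := ((g ^ 7 : Fˣ) : F)
  have hz9 : ζ ^ 9 = 1 := by
    rw [← Units.val_pow_eq_pow_val, ← h9, pow_orderOf_eq_one, Units.val_one]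
  have hz3 : ζ ^ 3 - 1 ≠ 0 := fun h => by
    have h3 : (g ^ 7) ^ 3 = 1 := Units.ext (by
      rw [Units.val_pow_eq_pow_val, Units.val_one]; exact sub_eq_zero.1 h)
    have := Nat.le_of_dvd (by norm_num) (orderOf_dvd_of_pow_eq_one h3)
    omega
  refine ⟨ζ, mul_left_cancel₀ hz3 ?_, h2⟩
  linear_combination hz9

theorem Frame.gen_eight_normal {ζ : F} (hm : ζ ^ 6 + ζ ^ 3 + 1 = 0) (h2 : (2 : F) = 0)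
    {u : Cfsg.GU 3 F 8} (hf : Frame u o w e 1 (ζ ^ 3)) : GenThree u e := by
  have hF := hf.card
  set Y : Fin 3 → Fin 3 → F := ![![(1 + ζ ^ 4 : F), (0 : F), (ζ + ζ ^ 3 : F)], ![(ζ ^ 2 + ζ ^ 5 : F), (ζ : F), (1 : F)], ![(1 + ζ : F), (ζ ^ 2 + ζ ^ 4 : F), (0 : F)]]
  obtain ⟨h, G, hdet, hG, hv⟩ := hf.exists_conj (X := ![![1, 0, 0], ![0, 1, 0], ![0, 0, 1]]) (Y := Y)
    (by simp [Matrix.det_fin_three]) (by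
      intro i j
      fin_cases i <;> fin_cases j <;>
        simp only [Y, vecOf, hf.herm, Fin.zero_eta, Fin.mk_one, Fin.reduceFinMk, Matrix.cons_val_zero,
          Matrix.cons_val_one, Matrix.cons_val, add_pow_q hF, one_pow, zero_pow_q hF]
      · linear_combination (-(2) + ζ ^ 1 - 2 * ζ ^ 2 + ζ ^ 3 - ζ ^ 4 + ζ ^ 6 + ζ ^ 8 - 2 * ζ ^ 9 + ζ ^ 10 - ζ ^ 11 - ζ ^ 13 + 2 * ζ ^ 15 + ζ ^ 17 - 2 * ζ ^ 18 + ζ ^ 19 - ζ ^ 20 - ζ ^ 22 + ζ ^ 24 + ζ ^ 26 - ζ ^ 27 - ζ ^ 29) * hm + (1 - ζ ^ 1 + ζ ^ 2 + ζ ^ 5) * h2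
      · linear_combination (-(1) - ζ ^ 4 + ζ ^ 6 + ζ ^ 7 - ζ ^ 9 - ζ ^ 11 - ζ ^ 13 + ζ ^ 14 + ζ ^ 16 - ζ ^ 17 - ζ ^ 19 + ζ ^ 23 + ζ ^ 25 - ζ ^ 26 - ζ ^ 28 + ζ ^ 32 + ζ ^ 34 - ζ ^ 35 - ζ ^ 37) * hm + (ζ ^ 3) * h2
      · linear_combination (1 + ζ ^ 1 - ζ ^ 4 - ζ ^ 6 + ζ ^ 10 - ζ ^ 11 + ζ ^ 12 - ζ ^ 13 + ζ ^ 14 - ζ ^ 15 - ζ ^ 20 + ζ ^ 21 - ζ ^ 24 + ζ ^ 26 - ζ ^ 29 + ζ ^ 30 - ζ ^ 33) * hm + (-(ζ ^ 1) - ζ ^ 3) * h2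
      · linear_combination (1 + ζ ^ 3 - 2 * ζ ^ 6 + ζ ^ 9 - ζ ^ 10 + ζ ^ 12 - 2 * ζ ^ 15 + ζ ^ 16 + ζ ^ 18 - ζ ^ 19 + ζ ^ 21 - ζ ^ 24 - ζ ^ 26 + ζ ^ 30 - ζ ^ 33 + ζ ^ 39 - ζ ^ 42 + ζ ^ 48 - ζ ^ 51) * hm + (-(1) - ζ ^ 3) * h2
      · linear_combination (-(1) - 2 * ζ ^ 1 + ζ ^ 2 + ζ ^ 3 + 2 * ζ ^ 4 - ζ ^ 8 - 2 * ζ ^ 10 + ζ ^ 11 + ζ ^ 13 - ζ ^ 16 - ζ ^ 17 + ζ ^ 20 + ζ ^ 22 - ζ ^ 25 - ζ ^ 26 + ζ ^ 29 + ζ ^ 31 - ζ ^ 34 - ζ ^ 35 + ζ ^ 38 - ζ ^ 41 + ζ ^ 47 - ζ ^ 50 + ζ ^ 56 - ζ ^ 59) * hm + (ζ ^ 1 - ζ ^ 2 - ζ ^ 5) * h2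
      · linear_combination (-(1) + ζ ^ 3 - ζ ^ 8 - ζ ^ 9 + ζ ^ 11 + ζ ^ 12 - ζ ^ 18 - ζ ^ 25 + ζ ^ 28 - ζ ^ 34) * hm + 0 * h2
      · linear_combination (-(1) - 2 * ζ ^ 2 - ζ ^ 3 + 2 * ζ ^ 6 + ζ ^ 8 - 2 * ζ ^ 9 - ζ ^ 11 + 2 * ζ ^ 15 + ζ ^ 17 - 2 * ζ ^ 18 - ζ ^ 20 + ζ ^ 24 - ζ ^ 25 - ζ ^ 27 + ζ ^ 31 + ζ ^ 33 - ζ ^ 34 - ζ ^ 36 + ζ ^ 40 + ζ ^ 42 - ζ ^ 43 - ζ ^ 45 + ζ ^ 49 + ζ ^ 51 - ζ ^ 52 - ζ ^ 54) * hm + (1 + ζ ^ 2 + ζ ^ 3 + ζ ^ 5) * h2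
      · linear_combination (-(1) - ζ ^ 1 + ζ ^ 3 + ζ ^ 4 - ζ ^ 9 - ζ ^ 11 + ζ ^ 12 + ζ ^ 14 - ζ ^ 18 - ζ ^ 20 + ζ ^ 21 + ζ ^ 23 - ζ ^ 27 - ζ ^ 29 + ζ ^ 30 + ζ ^ 32 - ζ ^ 36 - ζ ^ 38 + ζ ^ 39 + ζ ^ 41 - ζ ^ 42 - ζ ^ 44 + ζ ^ 48 + ζ ^ 50 - ζ ^ 51 - ζ ^ 53 + ζ ^ 57 + ζ ^ 59 - ζ ^ 60 - ζ ^ 62) * hm + 0 * h2
      · linear_combination (2 * ζ ^ 1 - 2 * ζ ^ 2 - 2 * ζ ^ 4 + 2 * ζ ^ 8 + 2 * ζ ^ 10 - 2 * ζ ^ 11 - 2 * ζ ^ 13 + 2 * ζ ^ 17 + ζ ^ 18 + ζ ^ 19 - 2 * ζ ^ 20 - ζ ^ 21 - ζ ^ 22 + ζ ^ 26 + ζ ^ 27 - ζ ^ 29 - ζ ^ 30) * hm + (-(ζ ^ 1) + ζ ^ 2 + ζ ^ 5) * h2)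
    (x := ζ) (f := 1) (one_pow 8) (by
      simp only [Matrix.det_fin_three, Y, Matrix.of_apply, Matrix.cons_val_zero, Matrix.cons_val_one,
        Matrix.cons_val]
      linear_combination (-(2) + 2 * ζ ^ 4 + ζ ^ 6) * hm + (1 - ζ ^ 2 - 2 * ζ ^ 4) * h2)
  have rO : G.1.1 *ᵥ o = vec o w e (1 + ζ ^ 4 : F) (0 : F) (ζ + ζ ^ 3 : F) := by simpa [vecOf, vec, Y] using hG 0
  have rW : G.1.1 *ᵥ w = vec o w e (ζ ^ 2 + ζ ^ 5 : F) (ζ : F) (1 : F) := by simpa [vecOf, vec, Y] using hG 1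
  have rE : G.1.1 *ᵥ e = vec o w e (1 + ζ : F) (ζ ^ 2 + ζ ^ 4 : F) (0 : F) := by simpa [vecOf, vec, Y] using hG 2
  have hGv : ∀ A B C : F, G.1.1 *ᵥ vec o w e A B C = vec o w e (A * (1 + ζ ^ 4 : F) + B * (ζ ^ 2 + ζ ^ 5 : F) + C * (1 + ζ : F))
      (A * (0 : F) + B * (ζ : F) + C * (ζ ^ 2 + ζ ^ 4 : F)) (A * (ζ + ζ ^ 3 : F) + B * (1 : F) + C * (0 : F)) := fun A B C => by
    conv_lhs => rw [vec, mulVec_add, mulVec_add, mulVec_smul, mulVec_smul, mulVec_smul, rO, rW, rE]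
    simp only [vec]
    module
  have g0 : G.1.1 *ᵥ (vec o w e (1 + ζ ^ 2 + ζ ^ 5 : F) (ζ + ζ ^ 2 + ζ ^ 3 : F) (ζ + ζ ^ 2 + ζ ^ 4 : F)) = vec o w e (0 : F) (0 : F) (1 : F) := by
    simp only [hf.u_vec, hGv]
    refine vec_ext ?_ ?_ ?_
    · linear_combination (1 + ζ ^ 1 + ζ ^ 2 + ζ ^ 3) * hm + (ζ ^ 2 + ζ ^ 4 + ζ ^ 5) * h2
    · linear_combination (2 + ζ ^ 2) * hm + (-(1) + ζ ^ 4) * h2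
    · linear_combination (1 + ζ ^ 2) * hm + (-(1) + ζ ^ 1 + ζ ^ 3) * h2
  have g1 : G.1.1 *ᵥ (u.1.1 *ᵥ (vec o w e (1 + ζ ^ 2 + ζ ^ 5 : F) (ζ + ζ ^ 2 + ζ ^ 3 : F) (ζ + ζ ^ 2 + ζ ^ 4 : F))) = vec o w e (ζ ^ 2 + ζ ^ 5 : F) (0 : F) (ζ ^ 2 + ζ ^ 5 : F) := by
    simp only [hf.u_vec, hGv]
    refine vec_ext ?_ ?_ ?_
    · linear_combination (1 + 2 * ζ ^ 1 + ζ ^ 2 + ζ ^ 3 + ζ ^ 4) * hm + (2 * ζ ^ 2 + ζ ^ 3 + ζ ^ 4 + ζ ^ 5) * h2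
    · linear_combination (4 + ζ ^ 1 + ζ ^ 2) * hm + (-(2) + ζ ^ 4 + ζ ^ 5) * h2
    · linear_combination (1 + ζ ^ 2) * hm + (ζ ^ 1 + ζ ^ 3) * h2
  have g2 : G.1.1 *ᵥ (vec o w e (1 + ζ + ζ ^ 4 : F) (ζ ^ 2 + ζ ^ 3 + ζ ^ 5 : F) (1 + ζ + ζ ^ 4 : F)) = vec o w e (ζ ^ 2 + ζ ^ 5 : F) (0 : F) (0 : F) := by
    simp only [hf.u_vec, hGv]
    refine vec_ext ?_ ?_ ?_
    · linear_combination (ζ ^ 1 + 2 * ζ ^ 2 + ζ ^ 4) * hm + (1 + ζ ^ 1 - ζ ^ 2 + ζ ^ 4) * h2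
    · linear_combination (2 + ζ ^ 2) * hm + (-(1) + ζ ^ 4) * h2
    · linear_combination (ζ ^ 1) * hm + (ζ ^ 2 + ζ ^ 3 + ζ ^ 5) * h2
  have g3 : G.1.1 *ᵥ (u.1.1 *ᵥ (u.1.1 *ᵥ (vec o w e (1 + ζ + ζ ^ 4 : F) (ζ ^ 2 + ζ ^ 3 + ζ ^ 5 : F) (1 + ζ + ζ ^ 4 : F)))) = vec o w e (1 + ζ ^ 4 : F) (1 + ζ ^ 4 : F) (0 : F) := by
    simp only [hf.u_vec, hGv]
    refine vec_ext ?_ ?_ ?_
    · linear_combination (4 + ζ ^ 1 + 2 * ζ ^ 2 + 2 * ζ ^ 3 + ζ ^ 4) * hm + (-(1) + 2 * ζ ^ 1 + 2 * ζ ^ 2 + 2 * ζ ^ 4 + 3 * ζ ^ 5) * h2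
    · linear_combination (3 + 4 * ζ ^ 1 + 2 * ζ ^ 2 + 2 * ζ ^ 3) * hm + (-(2) - ζ ^ 1 + ζ ^ 2 - ζ ^ 3 + 2 * ζ ^ 5) * h2
    · linear_combination (ζ ^ 1) * hm + (1 + ζ ^ 1 + ζ ^ 2 + ζ ^ 3 + ζ ^ 4 + ζ ^ 5) * h2
  have g4 : G.1.1 *ᵥ (vec o w e (1 + ζ + ζ ^ 4 + ζ ^ 5 : F) (ζ ^ 4 : F) (1 + ζ ^ 2 + ζ ^ 4 : F)) = vec o w e (1 + ζ ^ 4 : F) (0 : F) (1 + ζ ^ 4 : F) := by
    simp only [hf.u_vec, hGv]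
    refine vec_ext ?_ ?_ ?_
    · linear_combination (-(1) + ζ ^ 2 + 2 * ζ ^ 3) * hm + (1 + ζ ^ 1 + ζ ^ 4 + ζ ^ 5) * h2
    · linear_combination (2 + ζ ^ 2) * hm + (-(1) - ζ ^ 3 + ζ ^ 4) * h2
    · linear_combination (1 + ζ ^ 1 + ζ ^ 2) * hm + (-(1)) * h2
  have g5 : G.1.1 *ᵥ (u.1.1 *ᵥ (u.1.1 *ᵥ (u.1.1 *ᵥ (vec o w e (1 + ζ + ζ ^ 4 + ζ ^ 5 : F) (ζ ^ 4 : F) (1 + ζ ^ 2 + ζ ^ 4 : F))))) = vec o w e (0 : F) (0 : F) (ζ + ζ ^ 5 : F) := by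
    simp only [hf.u_vec, hGv]
    refine vec_ext ?_ ?_ ?_
    · linear_combination (5 + ζ ^ 2 + 5 * ζ ^ 3 + 3 * ζ ^ 4) * hm + (4 * ζ ^ 1 + 3 * ζ ^ 2 - 3 * ζ ^ 3 + 3 * ζ ^ 4 + 7 * ζ ^ 5) * h2
    · linear_combination (8 + 3 * ζ ^ 1 + 7 * ζ ^ 2 + 3 * ζ ^ 3) * hm + (-(4) - 4 * ζ ^ 3 + ζ ^ 4) * h2
    · linear_combination (1 + ζ ^ 1 + ζ ^ 2) * hm + (1 + ζ ^ 1 + 2 * ζ ^ 4 + ζ ^ 5) * h2
  have s2 : u.1.1 *ᵥ (u.1.1 *ᵥ (vec o w e (ζ ^ 2 + ζ ^ 5 : F) (0 : F) (ζ ^ 2 + ζ ^ 5 : F))) = vec o w e (ζ ^ 2 + ζ ^ 5 : F) (0 : F) (0 : F) := by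
    simp only [hf.u_vec]
    refine vec_ext ?_ ?_ ?_
    · linear_combination 0 * hm + 0 * h2
    · linear_combination 0 * hm + (ζ ^ 2 + ζ ^ 5) * h2
    · linear_combination 0 * hm + (ζ ^ 2 + ζ ^ 5) * h2
  have s4 : u.1.1 *ᵥ (vec o w e (1 + ζ ^ 4 : F) (1 + ζ ^ 4 : F) (0 : F)) = vec o w e (1 + ζ ^ 4 : F) (0 : F) (1 + ζ ^ 4 : F) := by
    simp only [hf.u_vec]
    refine vec_ext ?_ ?_ ?_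
    · linear_combination 0 * hm + 0 * h2
    · linear_combination 0 * hm + (1 + ζ ^ 4) * h2
    · linear_combination 0 * hm + 0 * h2

  set v := h * u * h⁻¹
  have eE : vec o w e (0 : F) (0 : F) (1 : F) = e := by simp [vec]
  have k1 : v.1.1 *ᵥ e = vec o w e (ζ ^ 2 + ζ ^ 5 : F) (0 : F) (ζ ^ 2 + ζ ^ 5 : F) := by
    conv_lhs => rw [← eE, ← g0, hv]
    exact g1
  have k3 : v.1.1 *ᵥ (v.1.1 *ᵥ (vec o w e (ζ ^ 2 + ζ ^ 5 : F) (0 : F) (0 : F))) = vec o w e (1 + ζ ^ 4 : F) (1 + ζ ^ 4 : F) (0 : F) := by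
    rw [← g2, hv, hv]; exact g3
  have k5 : v.1.1 *ᵥ (v.1.1 *ᵥ (v.1.1 *ᵥ (vec o w e (1 + ζ ^ 4 : F) (0 : F) (1 + ζ ^ 4 : F)))) = vec o w e (0 : F) (0 : F) (ζ + ζ ^ 5 : F) := by
    rw [← g4, hv, hv, hv]; exact g5
  set l : F := (ζ + ζ ^ 5 : F) with hl
  have hl0 : l ≠ 0 := left_ne_zero_of_mul_eq_one (b := (1 + ζ + ζ ^ 2 + ζ ^ 3 : F)) (by rw [hl]; linear_combination (1 + ζ ^ 1 + ζ ^ 2) * hm + (-(1)) * h2)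
  have hnu : l * l ^ 8 - 1 ≠ 0 := left_ne_zero_of_mul_eq_one (b := (ζ + ζ ^ 2 + ζ ^ 4 : F)) (by
    rw [hl]; simp only [add_pow_q hF, one_pow]; linear_combination (1 - ζ ^ 1 - ζ ^ 2 + ζ ^ 3 + ζ ^ 5 - 2 * ζ ^ 6 + ζ ^ 7 + ζ ^ 9 + ζ ^ 12 + ζ ^ 14 - ζ ^ 15 - ζ ^ 20 + ζ ^ 21 + ζ ^ 23 - ζ ^ 24 - ζ ^ 29 + ζ ^ 30 + ζ ^ 32 - ζ ^ 33 - ζ ^ 38 + ζ ^ 39 + ζ ^ 41 + ζ ^ 43) * hm + (-(1) - ζ ^ 3) * h2)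
  have hA : (ζ ^ 2 + ζ ^ 5 : F) ≠ 0 := left_ne_zero_of_mul_eq_one (b := (ζ : F)) (by linear_combination (1) * hm + (-(1)) * h2)
  have hne : hermForm 3 F 8 (v.1.1 *ᵥ e) e ≠ 0 := by
    rw [k1, hf.herm_e, mul_one]; exact hA
  refine ⟨h, hdet, fun K hu hvK => ⟨?_, hne⟩⟩
  set C := v * (v * (v * (u * (v * (v * (u * (u * v)))))))
  have hCK : C ∈ K := by
    refine mul_mem hvK (mul_mem hvK (mul_mem hvK (mul_mem hu (mul_mem hvK (mul_mem hvK (mul_mem hu ?_))))))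
    exact mul_mem hu hvK
  have hCe : C.1.1 *ᵥ e = l • e := by
    simp only [C, Subgroup.coe_mul, Units.val_mul, ← mulVec_mulVec]
    rw [k1, s2, k3, s4, k5, vec, zero_smul, zero_smul, zero_add, zero_add]
  have hTv : TvMem K e (1 : F) := by
    have h' := tv_of_fix hf (Z := u * u) (d := 1)
      (by rw [GU_mul_mulVec, hf.ue, hf.ue])
      (by
        rw [GU_mul_mulVec, hf.uw, mulVec_add, hf.uw, hf.ue, add_assoc, ← two_smul F e, h2, zero_smul, add_zero])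
      (by
        rw [GU_mul_mulVec, hf.uo, mulVec_add, hf.uo, hf.uw, add_assoc, ← add_assoc w, ← two_smul F w, h2,
          zero_smul, zero_add, one_smul])
    rw [div_one] at h'
    exact ⟨u * u, mul_mem hu hu, h'⟩
  have hstep : ∀ c, TvMem K e c → TvMem K e (l * l ^ 8 * c) := by
    rintro c ⟨A, hAK, hA'⟩
    refine ⟨C * A * C⁻¹, mul_mem (mul_mem hCK hAK) (inv_mem hCK), fun x => ?_⟩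
    rw [hA'.conj C x, hCe, herm_smul_right, smul_smul]
    congr 2; ring
  have hpow : ∀ k : ℕ, TvMem K e ((l * l ^ 8) ^ k) := by
    intro k
    induction k with
    | zero => rw [pow_zero]; exact hTv
    | succ k ih => rw [pow_succ']; exact hstep _ ih
  have h63 : ∀ x : F, x ≠ 0 → x ^ 63 = 1 := fun x hx => by
    have := FiniteField.pow_card_sub_one_eq_one x hx
    rwa [hF] at this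
  have hprim : IsPrimitiveRoot (l * l ^ 8) 7 := by
    rw [IsPrimitiveRoot.iff_orderOf]
    haveI : Fact (Nat.Prime 7) := ⟨by norm_num⟩
    refine orderOf_eq_prime ?_ (sub_ne_zero.1 hnu)
    rw [← pow_succ', ← pow_mul]
    exact h63 l hl0
  refine full_of_tvMem fun c hc => ?_
  rcases eq_or_ne c 0 with rfl | hc0
  · exact TvMem.zero K
  have hc7 : c ^ 7 = 1 := mul_left_cancel₀ hc0 (by linear_combination hc - c * h2)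
  obtain ⟨k, -, rfl⟩ := hprim.eq_pow_of_pow_eq_one hc7
  exact hpow k

theorem Frame.gen_eight (hf : Frame u o w e β a) (h8 : q = 8) :
    ∃ o' w' e' β' a', Frame u o' w' e' β' a' ∧ GenThree u e' := by
  subst h8
  obtain ⟨ζ, hm, h2⟩ := exists_zeta_eight hf.card
  have ha : ζ ^ 3 + (ζ ^ 3) ^ 8 = 1 := by
    linear_combination (ζ ^ 18 - ζ ^ 15 + ζ ^ 9 - ζ ^ 6 + 1) * hm - h2
  obtain ⟨o', w', e', hf'⟩ := hf.normal ha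
  exact ⟨o', w', e', 1, ζ ^ 3, hf', hf'.gen_eight_normal hm h2⟩

end Cfsg.Agent.Lib.GenSU
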