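import Cfsg.Agent.Lib.GenSU.Words

/-! Two conjugate regular unipotents of `SU 3`, `q = 5`. -/

set_option autoImplicit false
set_option linter.unusedSectionVars false

namespace Cfsg.Agent.Lib.GenSU

open Matrix Module Cfsg.Agent.Lib.Unitary

variable {F : Type*} [Field F] [Fintype F] {q : ℕ}
variable {u : Cfsg.GU 3 F q} {o w e : Fin 3 → F} {β a : F}

theorem TvMem.add {K : Subgroup (Cfsg.GU 3 F q)} (he : hermForm 3 F q e e = 0) {c d : F}
    (hc : TvMem K e c) (hd : TvMem K e d) : TvMem K e (c + d) := by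
  obtain ⟨A, hAK, hA⟩ := hc
  obtain ⟨B, hBK, hB⟩ := hd
  refine ⟨A * B, mul_mem hAK hBK, fun x => ?_⟩
  rw [GU_mul_mulVec, hB, hA, herm_add_left, herm_smul_left, he, mul_zero, add_zero]
  rw [add_assoc, ← add_smul]; ring_nf

theorem TvMem.zero (K : Subgroup (Cfsg.GU 3 F q)) : TvMem K e (0 : F) :=
  ⟨1, one_mem K, fun x => by simp⟩

theorem TvMem.nsmul {K : Subgroup (Cfsg.GU 3 F q)} (he : hermForm 3 F q e e = 0) {c : F}
    (hc : TvMem K e c) (k : ℕ) : TvMem K e ((k : F) * c) := by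
  induction k with
  | zero => simpa using TvMem.zero K
  | succ k ih => rw [Nat.cast_succ, add_mul, one_mul]; exact ih.add he hc

theorem full_of_tvMem {K : Subgroup (Cfsg.GU 3 F q)} (h : ∀ c : F, c + c ^ q = 0 → TvMem K e c) :
    Full K e := fun c hc A hA => by
  obtain ⟨B, hBK, hB⟩ := h c hc
  rw [hA.unique hB]; exact hBK

theorem five_eq_zero (hF : Fintype.card F = 5 ^ 2) : (5 : F) = 0 := by
  have h := Nat.cast_card_eq_zero F
  rw [hF] at h
  push_cast at h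
  exact (pow_eq_zero_iff two_ne_zero).1 (by linear_combination h)

theorem Frame.gen_five (hf : Frame u o w e β a) (h5 : q = 5) : GenThree u e := by
  subst h5
  have hF := hf.card
  have hβ := hf.β_ne
  have c5 : (5 : F) = 0 := five_eq_zero hF
  have hnat : ∀ k : ℕ, 0 < k → k < 5 → (k : F) ≠ 0 := by
    intro k h0 h5 hk
    interval_cases k
    · exact (one_ne_zero : (1 : F) ≠ 0) (by simpa using hk)
    · exact one_ne_zero (show (1 : F) = 0 by push_cast at hk; linear_combination c5 - 2 * hk)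
    · exact one_ne_zero (show (1 : F) = 0 by push_cast at hk; linear_combination 2 * hk - c5)
    · exact one_ne_zero (show (1 : F) = 0 by push_cast at hk; linear_combination c5 - hk)
  have hn2 : (2 : F) ≠ 0 := by simpa using hnat 2 (by norm_num) (by norm_num)
  have hn3 : (3 : F) ≠ 0 := by simpa using hnat 3 (by norm_num) (by norm_num)
  obtain ⟨θ, hθ2, hθq⟩ : ∃ θ : F, θ ^ 2 = 2 ∧ θ ^ 5 = -θ := by
    obtain ⟨t, ht0, ht⟩ := exists_trace_zero_ne_zero hF
    have h4 : t ^ 4 + 1 = 0 := mul_left_cancel₀ ht0 (by linear_combination ht)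
    have : (t ^ 2 - 2) * (t ^ 2 + 2) = 0 := by linear_combination h4 - c5
    rcases mul_eq_zero.1 this with h | h
    · exact ⟨t, sub_eq_zero.1 h, by linear_combination ht⟩
    · exact ⟨2 * t, by linear_combination 4 * h - 2 * c5, by linear_combination 32 * ht - 6 * t * c5⟩
  have hθ0 : θ ≠ 0 := fun h => hn2 (by rw [← hθ2, h]; ring)
  have hk : ∀ k : ℕ, ((k : F)) ^ 5 = k := by
    intro k
    induction k with
    | zero => simp
    | succ k ih => push_cast; rw [add_pow_q hF, ih, one_pow]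
  have q2 : (2 : F) ^ 5 = 2 := by simpa using hk 2
  have q3 : (3 : F) ^ 5 = 3 := by simpa using hk 3
  set g : F := 1 + θ with hg
  have hgq : g ^ 5 = 1 - θ := by rw [hg, add_pow_q hF, one_pow, hθq]; ring
  have htr : g + g ^ 5 ≠ 0 := by rw [hgq, hg]; ring_nf; exact hn2
  obtain ⟨A, B, C, hA, hiso, hγ, hNA⟩ := hf.exists_iso htr
  obtain ⟨A', B', C', hA', hiso', hγ', hNA'⟩ := hf.exists_iso (δ := (2 : F)) (by
    rw [q2]; intro h; exact hn2 (mul_left_cancel₀ hn2 (by linear_combination h)))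
  have hAq' : A' ^ 5 ≠ 0 := pow_ne_zero 5 hA'
  set ρ : F := g / (β * A' ^ 5) with hρ
  set l : F := 1 - 2 * θ with hl
  have hlq : l ^ 5 = 1 + 2 * θ := by
    rw [hl, sub_pow_q hF, one_pow, mul_pow, q2, hθq]; ring
  have hl0 : l ≠ 0 := by
    intro h
    refine hn3 ?_
    linear_combination (1 + 2 * θ) * h + 4 * hθ2 + 2 * c5
  set X : Fin 3 → Fin 3 → F :=
    ![![A, B, C], ![A, A + B, B + C], ![l * A, l * (B - 2 * A), l * (C - 2 * B + 3 * A)]]
  set Y : Fin 3 → Fin 3 → F := ![![0, 0, ρ], ![A', B', C'], ![A', A' + B', B' + C']]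
  set x1 := vec o w e A B C
  set y1 := vec o w e A' B' C'
  have hx0 : vecOf o w e (X 0) = x1 := rfl
  have hx1 : vecOf o w e (X 1) = u.1.1 *ᵥ x1 := by rw [hf.u_vec]; rfl
  set x2 := u⁻¹.1.1 *ᵥ (u⁻¹.1.1 *ᵥ x1) with hx2d
  have hx2 : vecOf o w e (X 2) = l • x2 := by
    rw [hx2d, hf.uinv_vec, hf.uinv_vec]; simp [X, vecOf, vec, smul_smul, smul_add]; ring_nf
  have hy0 : vecOf o w e (Y 0) = ρ • e := by simp [Y, vecOf, vec]
  have hy1 : vecOf o w e (Y 1) = y1 := rfl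
  have hy2 : vecOf o w e (Y 2) = u.1.1 *ᵥ y1 := by rw [hf.u_vec]; rfl
  have e0 := hiso
  have e1 := hγ
  rw [hf.herm] at e0
  rw [hf.u_vec, hf.herm] at e1
  simp only [add_pow_q hF] at e0 e1
  rw [hgq] at hNA
  have hsq : hermForm 3 F 5 x1 (u.1.1 *ᵥ (u.1.1 *ᵥ x1)) = 3 * g + (1 - θ) := by
    rw [hf.u_vec, hf.u_vec, hf.herm]
    simp only [add_pow_q hF]
    linear_combination 2 * e1 - e0 + hNA
  have hcu : hermForm 3 F 5 x1 (u.1.1 *ᵥ (u.1.1 *ᵥ (u.1.1 *ᵥ x1))) = 3 * g + 3 * (g + (1 - θ)) := by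
    rw [hf.u_vec, hf.u_vec, hf.u_vec, hf.herm]
    simp only [add_pow_q hF]
    linear_combination 3 * e1 - 2 * e0 + 3 * hNA
  have hback : ∀ y, hermForm 3 F 5 y x2 = hermForm 3 F 5 (u.1.1 *ᵥ (u.1.1 *ᵥ y)) x1 := fun y => by
    rw [hx2d, ← GU_herm y _ u, GU_mulVec_inv, ← GU_herm (u.1.1 *ᵥ y) _ u, GU_mulVec_inv]
  have h13 : hermForm 3 F 5 (u.1.1 *ᵥ x1) (l • x2) = 2 := by
    rw [herm_smul_right, hlq, hback, ← herm_conj x1 _ hF, hcu]
    simp only [add_pow_q hF, sub_pow_q hF, mul_pow, q3, one_pow, hθq, hgq]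
    linear_combination (-6 : F) * hθ2 + (-1 + 3 * θ) * c5
  have h02 : hermForm 3 F 5 x1 (l • x2) = g := by
    rw [herm_smul_right, hlq, hback, ← herm_conj x1 _ hF, hsq]
    simp only [add_pow_q hF, sub_pow_q hF, mul_pow, q3, one_pow, hθq, hgq]
    linear_combination (-4 : F) * hθ2 + (-1 + θ) * c5
  have h22 : hermForm 3 F 5 (l • x2) (l • x2) = 0 := by
    rw [herm_smul_left, herm_smul_right, hback, hx2d, GU_mulVec_inv, GU_mulVec_inv, hiso, mul_zero, mul_zero]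
  have t01 : hermForm 3 F 5 (ρ • e) y1 = g := by
    rw [herm_smul_left, ← herm_conj y1 e hF, hf.herm_e, mul_pow, hf.β_fix, hρ]
    field_simp
  have t02 : hermForm 3 F 5 (ρ • e) (u.1.1 *ᵥ y1) = g := by
    rw [herm_smul_left, show hermForm 3 F 5 e (u.1.1 *ᵥ y1) = hermForm 3 F 5 e y1 by
      conv_lhs => rw [← hf.ue, GU_herm], ← herm_smul_left, t01]
  have hX : (Matrix.of X).det = 3 * l * A ^ 3 := by
    simp [Matrix.det_fin_three, X]; ring
  have hgl : g = θ * l := by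
    rw [hg, hl]; linear_combination 2 * hθ2 + c5
  obtain ⟨h, G, hdet, hG, hv⟩ := hf.exists_conj (X := X) (Y := Y)
    (by rw [hX]; exact mul_ne_zero (mul_ne_zero hn3 hl0) (pow_ne_zero 3 hA)) (by
      intro i j
      fin_cases i <;> fin_cases j <;> simp only [Fin.zero_eta, Fin.mk_one, Fin.reduceFinMk, hx0, hx1, hx2, hy0, hy1, hy2]
      · rw [hiso, herm_smul_left, herm_smul_right, hf.ee, mul_zero, mul_zero]
      · rw [hγ, t01]
      · rw [h02, t02]
      · rw [← herm_conj x1 _ hF, hγ, ← herm_conj (ρ • e) y1 hF, t01]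
      · rw [GU_herm, hiso, hiso']
      · rw [h13, hγ']
      · rw [← herm_conj x1 _ hF, h02, ← herm_conj (ρ • e) _ hF, t02]
      · rw [← herm_conj (u.1.1 *ᵥ x1) _ hF, h13, ← herm_conj y1 _ hF, hγ']
      · rw [h22, GU_herm, hiso'])
    (x := 2 * θ * A' / A) (f := (3 * β * (A' * A' ^ 5))⁻¹)
    (by rw [inv_pow, mul_pow, mul_pow, q3, hf.β_fix, norm_fixed hF]) (by
      rw [hX]
      simp [Matrix.det_fin_three, Y, hρ, hgl]
      field_simp
      linear_combination (-8 * A') * hθ2 - 3 * A' * c5)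
  have r0 := hG 0; have r1 := hG 1; have r2 := hG 2
  rw [hx0, hy0] at r0
  rw [hx1, hy1] at r1
  rw [hx2, hy2] at r2
  have hρ0 : ρ ≠ 0 := div_ne_zero (by rw [hgl]; exact mul_ne_zero hθ0 hl0) (mul_ne_zero hβ hAq')
  have hve : (h * u * h⁻¹).1.1 *ᵥ (ρ • e) = y1 := by rw [← r0, hv, r1]
  set v := h * u * h⁻¹
  have hne : hermForm 3 F 5 (v.1.1 *ᵥ e) e ≠ 0 := by
    intro h0
    have : hermForm 3 F 5 y1 e = 0 := by rw [← hve, mulVec_smul, herm_smul_left, h0, mul_zero]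
    rw [hf.herm_e] at this
    exact mul_ne_zero hA' hβ this
  have hCe : (v * (v * (u * v))).1.1 *ᵥ e = l • e := by
    have : (v * (v * (u * v))).1.1 *ᵥ (ρ • e) = l • (ρ • e) := by
      rw [GU_mul_mulVec (A := v) (B := v * (u * v)), GU_mul_mulVec (A := v) (B := u * v), GU_mul_mulVec (A := u) (B := v), hve, ← r2, hv, mulVec_smul, hx2d, GU_mulVec_inv,
        hv, mulVec_smul, GU_mulVec_inv, mulVec_smul, r0]
    rw [mulVec_smul, smul_comm] at this
    exact smul_right_injective _ hρ0 this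
  refine ⟨h, hdet, fun K hu hvK => ⟨?_, hne⟩⟩
  set C := v * (v * (u * v))
  have hCK : C ∈ K := mul_mem hvK (mul_mem hvK (mul_mem hu hvK))
  have hCdet : C.1.1.det = 1 := by
    have h1 : detGU 3 F 5 h = 1 := Units.ext (by rw [detGU_val]; exact hdet)
    have h2 : detGU 3 F 5 u = 1 := Units.ext (by rw [detGU_val]; exact hf.det)
    rw [← detGU_val, show detGU 3 F 5 C = 1 by simp [C, v, h1, h2]]; rfl
  have hsh : l ^ 2 / l ^ 5 * 1 ∈ shifts K w e :=
    ⟨C * u * C⁻¹, mul_mem (mul_mem hCK hu) (inv_mem hCK), (Rad.self hf).conj hf hl0 hCe hCdet⟩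
  have hT := tvMem_comm hf hsh (⟨u, hu, Rad.self hf⟩ : (1 : F) ∈ shifts K w e)
  set c0 : F := ((1 : F) ^ 5 * (l ^ 2 / l ^ 5 * 1) - (l ^ 2 / l ^ 5 * 1) ^ 5 * 1) / β with hc0
  have hlq0 : l ^ 5 ≠ 0 := pow_ne_zero 5 hl0
  have hc0ne : c0 ≠ 0 := by
    rw [hc0, one_pow, one_mul, mul_one, mul_one, div_pow, pow_q_q hF, ← pow_mul, mul_comm 2 5, pow_mul]
    refine div_ne_zero ?_ hβ
    rw [div_sub_div _ _ hlq0 hl0, hlq]
    refine div_ne_zero ?_ (by rw [← hlq]; exact mul_ne_zero hlq0 hl0)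
    intro hh
    refine hθ0 ?_
    rw [hl] at hh
    linear_combination hh + 16 * θ * hθ2 + 9 * θ * c5
  have hc0tr : c0 + c0 ^ 5 = 0 := by
    rw [hc0]
    generalize l ^ 2 / l ^ 5 * 1 = κ
    rw [div_pow, hf.β_fix, one_pow, one_mul, mul_one, sub_pow_q hF, pow_q_q hF]
    ring
  refine full_of_tvMem fun c hc => ?_
  set r := c / c0 with hr
  have hr5 : r ^ 5 = r := by
    rw [hr, div_pow, show c ^ 5 = -c by linear_combination hc, show c0 ^ 5 = -c0 by linear_combination hc0tr,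
      neg_div_neg_eq]
  have hprod : r * (r - (1 : ℕ)) * (r - (2 : ℕ)) * (r - (3 : ℕ)) * (r - (4 : ℕ)) = 0 := by
    push_cast
    linear_combination hr5 + (-2 * r ^ 4 + 7 * r ^ 3 - 10 * r ^ 2 + 5 * r) * c5
  have hex : ∃ k : ℕ, r = k := by
    rcases mul_eq_zero.1 hprod with h | h
    · rcases mul_eq_zero.1 h with h | h
      · rcases mul_eq_zero.1 h with h | h
        · rcases mul_eq_zero.1 h with h | h
          · exact ⟨0, by simpa using h⟩
          · exact ⟨1, sub_eq_zero.1 h⟩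
        · exact ⟨2, sub_eq_zero.1 h⟩
      · exact ⟨3, sub_eq_zero.1 h⟩
    · exact ⟨4, sub_eq_zero.1 h⟩
  obtain ⟨k, hk'⟩ := hex
  have := hT.nsmul hf.ee k
  rwa [← hk', hr, div_mul_cancel₀ _ hc0ne] at this

end Cfsg.Agent.Lib.GenSU
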