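import Cfsg.Agent.Lib.GenSU.Words

/-! Two conjugate regular unipotents of `SU 3` for `q ≠ 2, 5, 8`. -/

set_option autoImplicit false
set_option linter.unusedSectionVars false

namespace Cfsg.Agent.Lib.GenSU

open Matrix Module Cfsg.Agent.Lib.Unitary

variable {F : Type*} [Field F] [Fintype F] {q : ℕ}
variable {u : Cfsg.GU 3 F q} {o w e : Fin 3 → F} {β a : F}

theorem excluded_q {A j : ℕ} (hA : 2 ≤ A) (hj : 2 ≤ j) (hq : 2 ≤ q) (hpow : q ^ 2 = A ^ j)
    (hdvd : q + 1 ∣ 3 * (A - 1)) : q = 2 ∨ q = 5 ∨ q = 8 := by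
  have hle := Nat.le_of_dvd (by omega) hdvd
  rcases eq_or_ne j 2 with rfl | hj2
  · have e : A = q := Nat.pow_left_injective (by norm_num) hpow.symm
    subst e
    have h6 : A + 1 ∣ 6 := by
      have h3 : A + 1 ∣ 3 * (A + 1) := Dvd.intro_left 3 rfl
      have := Nat.dvd_sub h3 hdvd
      rwa [show 3 * (A + 1) - 3 * (A - 1) = 6 by omega] at this
    have := Nat.le_of_dvd (by norm_num) h6
    have hA5 : A ≤ 5 := by omega
    interval_cases A <;> omega
  · have hq3 : q < 3 * A := by omega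
    have hlt : A ^ j < 9 * A ^ 2 := by
      rw [← hpow]; nlinarith
    obtain ⟨i, rfl⟩ : ∃ i, j = i + 3 := ⟨j - 3, by omega⟩
    rw [show i + 3 = (i + 1) + 2 by ring, pow_add] at hlt
    have h9 : A ^ (i + 1) < 9 := Nat.lt_of_mul_lt_mul_right hlt
    have hA9 : A < 9 := lt_of_le_of_lt (Nat.le_self_pow (by omega) A) h9
    have hi : i ≤ 2 := by
      by_contra hc
      have : 2 ^ 4 ≤ A ^ (i + 1) := le_trans (Nat.pow_le_pow_right (by norm_num) (by omega))
        (Nat.pow_le_pow_left hA _)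
      omega
    interval_cases A <;> interval_cases i <;> first
      | (exfalso; revert h9; decide)
      | (have : q ≤ 23 := by omega
         interval_cases q <;> omega)

/-- A norm-one element whose cube generates the field. -/
theorem exists_norm_one_cube_gen (hF : Fintype.card F = q ^ 2) (h2 : q ≠ 2) (h5 : q ≠ 5) (h8 : q ≠ 8) :
    ∃ l : F, l * l ^ q = 1 ∧ l ≠ -1 ∧ ∀ A : Subring F, l ^ 3 ∈ A → A = ⊤ := by
  classical
  obtain ⟨g, hg⟩ := IsCyclic.exists_ofOrder_eq_natCard (α := (normHom F q).ker)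
  rw [(card_normHom hF).1] at hg
  rw [← Subgroup.orderOf_coe, ← orderOf_units] at hg
  set l : F := ((g : Fˣ) : F) with hl
  have hq := one_lt_q hF
  have hl1 : l * l ^ q = 1 := by
    rw [← pow_succ', ← hg, pow_orderOf_eq_one]
  refine ⟨l, hl1, fun e => ?_, fun A hA => ?_⟩
  · have : l ^ 2 = 1 := by rw [e]; ring
    have := Nat.le_of_dvd (by norm_num) (orderOf_dvd_of_pow_eq_one this)
    omega
  · by_contra hne
    haveI : Finite A := Subtype.finite
    haveI : Fintype A := Fintype.ofFinite A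
    letI := Fintype.fieldOfDomain A
    have hl0 : l ≠ 0 := fun h => by simp [h] at hl1
    have hA0 : (⟨l ^ 3, hA⟩ : A) ≠ 0 := fun h => pow_ne_zero 3 hl0 (congrArg Subtype.val h)
    have h1 : (l ^ 3) ^ (Nat.card A - 1) = 1 := by
      have h1 := congrArg Subtype.val (FiniteField.pow_card_sub_one_eq_one _ hA0)
      rw [Nat.card_eq_fintype_card]
      exact h1
    rw [← pow_mul] at h1
    have hdvd := orderOf_dvd_of_pow_eq_one h1
    rw [hg] at hdvd
    have e := Module.natCard_eq_pow_finrank (K := A) (V := F)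
    rw [Nat.card_eq_fintype_card (α := F), hF] at e
    have hdim : 2 ≤ Module.finrank A F := by
      have hpos : 0 < Module.finrank A F := Module.finrank_pos
      by_contra hlt
      rw [show Module.finrank A F = 1 by omega, pow_one, ← hF, ← Nat.card_eq_fintype_card] at e
      have : Function.Surjective ((↑) : A → F) :=
        (Function.Injective.bijective_of_nat_card_le Subtype.val_injective e.le).2
      refine hne (eq_top_iff.2 fun x _ => ?_)
      obtain ⟨y, hy⟩ := this x
      exact hy ▸ y.2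
    rcases excluded_q (q := q) Finite.one_lt_card hdim hq e hdvd with h | h | h
    · exact h2 h
    · exact h5 h
    · exact h8 h

/-- A subgroup of shifts stable under a generator of the field is everything. -/
theorem full_of_shifts (hf : Frame u o w e β a) {K : Subgroup (Cfsg.GU 3 F q)} (hu : u ∈ K)
    (hall : ∀ s, s ∈ shifts K w e) : Full K e := by
  have hF := hf.card
  intro c hc A hA
  obtain ⟨ξ, hξ⟩ := trace_surj hF (y := (1 : F)) (one_pow q)
  obtain ⟨B, hBK, hB⟩ := tvMem_comm hf (hall (c * β * ξ)) (⟨u, hu, Rad.self hf⟩ : (1 : F) ∈ shifts K w e)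
  have e1 : (((1 : F) ^ q * (c * β * ξ) - (c * β * ξ) ^ q * 1) / β) = c := by
    rw [one_pow, mul_pow, mul_pow, hf.β_fix, show c ^ q = -c by linear_combination hc, div_eq_iff hf.β_ne]
    linear_combination (c * β) * hξ
  rw [e1] at hB
  rw [hA.unique hB]; exact hBK

theorem Frame.gen_generic (hf : Frame u o w e β a) (h2 : q ≠ 2) (h5 : q ≠ 5) (h8 : q ≠ 8) :
    GenThree u e := by
  have hF := hf.card
  obtain ⟨l, hl1, hlne, hgen⟩ := exists_norm_one_cube_gen hF h2 h5 h8
  have hl0 : l ≠ 0 := fun h => by simp [h] at hl1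
  obtain ⟨x, hx0, hx⟩ := exists_div_conj hF hl1
  have hg : x ^ q + (x ^ q) ^ q ≠ 0 := by
    rw [pow_q_q hF]
    intro h
    refine hlne (mul_right_cancel₀ (pow_ne_zero q hx0) ?_)
    linear_combination h - hx
  obtain ⟨h, hdet, hne, hC⟩ := hf.word_one hg
  rw [pow_q_q hF, show x / x ^ q = l by rw [div_eq_iff (pow_ne_zero q hx0)]; exact hx] at hC
  refine ⟨h, hdet, fun K hu hv => ⟨full_of_shifts hf hu ?_, hne⟩⟩
  set C := h * u * h⁻¹ * u * (h * u * h⁻¹)
  have hCK : C ∈ K := mul_mem (mul_mem hv hu) hv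
  have hCdet : C.1.1.det = 1 := by
    have hd : ∀ k : Cfsg.GU 3 F q, k.1.1.det = Units.val (detGU 3 F q k) := fun k => (detGU_val k).symm
    have h1 : detGU 3 F q h = 1 := Units.ext (by rw [detGU_val]; exact hdet)
    have h2 : detGU 3 F q u = 1 := Units.ext (by rw [detGU_val]; exact hf.det)
    rw [hd, show detGU 3 F q C = 1 by simp [C, h1, h2]]; rfl
  have hk : l ^ 2 / l ^ q = l ^ 3 := by
    rw [div_eq_iff (pow_ne_zero q hl0)]
    linear_combination (-l ^ 2) * hl1
  let S := shifts K w e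
  let R : Subring F :=
    { carrier := {c | ∀ s ∈ S, c * s ∈ S}
      mul_mem' := fun {b c} hb hc s hs => by rw [mul_assoc]; exact hb _ (hc s hs)
      one_mem' := fun s hs => by rwa [one_mul]
      add_mem' := fun {b c} hb hc s hs => by rw [add_mul]; exact add_mem (hb s hs) (hc s hs)
      zero_mem' := fun s _ => by rw [zero_mul]; exact zero_mem S
      neg_mem' := fun {b} hb s hs => by rw [neg_mul]; exact neg_mem (hb s hs) }
  have hR : R = ⊤ := hgen R fun s ⟨g, hgK, hg⟩ => by
    rw [← hk]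
    exact ⟨C * g * C⁻¹, mul_mem (mul_mem hCK hgK) (inv_mem hCK), hg.conj hf hl0 hC hCdet⟩
  intro s
  have := (hR ▸ Subring.mem_top s : s ∈ R) 1 ⟨u, hu, Rad.self hf⟩
  rwa [mul_one] at this

end Cfsg.Agent.Lib.GenSU
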