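import Cfsg.Agent.Lib.GenSU.ThreeGeneric
import Cfsg.Agent.Lib.GenSU.ThreeEight

/-! Two conjugate regular unipotents generate `SU 3`. -/

set_option autoImplicit false
set_option linter.unusedSectionVars false

namespace Cfsg.Agent.Lib.GenSU

open Matrix Module Cfsg.Agent.Lib.Unitary

variable {F : Type*} [Field F] [Fintype F] {q : ℕ}

theorem gen_three (hq : 3 ≤ q) (hF : Fintype.card F = q ^ 2) :
    ∃ u g : ↥(Cfsg.SU 3 F q),
      (IsNilpotent (u.1.1 - 1) ∧ (u.1.1 - 1) ^ (3 - 1) ≠ 0) ∧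
      Subgroup.closure ({u, g * u * g⁻¹} : Set ↥(Cfsg.SU 3 F q)) = ⊤ := by
  classical
  obtain ⟨u, o, w, e, β, a, hf, hgen⟩ : ∃ (u : Cfsg.GU 3 F q) (o w e : Fin 3 → F) (β a : F),
      Frame u o w e β a ∧ GenThree u e := by
    obtain ⟨u, o, w, e, β, a, hf⟩ := exists_frame hF
    by_cases h5 : q = 5
    · exact ⟨u, o, w, e, β, a, hf, hf.gen_five h5⟩
    by_cases h8 : q = 8
    · exact ⟨u, hf.gen_eight h8⟩
    exact ⟨u, o, w, e, β, a, hf, hf.gen_generic (by omega) h5 h8⟩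
  obtain ⟨h, hdet, hK⟩ := hgen
  have hlift : ∀ x : Cfsg.GU 3 F q, x.1.1.det = 1 → ∃ X, suToGU 3 F q X = x := fun x hx => by
    rw [← MonoidHom.mem_range, suToGU_range]
    exact MonoidHom.mem_ker.2 (Units.ext hx)
  obtain ⟨U, hU⟩ := hlift u hf.det
  obtain ⟨G, hG⟩ := hlift h hdet
  have hUv : U.1.1 = u.1.1 := by rw [← hU]; rfl
  set N := U.1.1 - 1 with hN
  have hNv : ∀ A B C : F, N *ᵥ vec o w e A B C = vec o w e 0 A B := fun A B C => by
    rw [hN, sub_mulVec, one_mulVec, hUv, hf.u_vec]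
    simp only [vec]; module
  refine ⟨U, G, ⟨⟨3, Matrix.toLin'.injective (LinearMap.ext fun x => ?_)⟩, ?_⟩, ?_⟩
  · obtain ⟨A, B, C, rfl⟩ := hf.exists_vec x
    rw [Matrix.toLin'_apply, map_zero, LinearMap.zero_apply, pow_succ', pow_two, ← mulVec_mulVec, ← mulVec_mulVec,
      hNv, hNv, hNv]
    simp [vec]
  · intro h0
    have h1 : (N ^ (3 - 1)) *ᵥ vec o w e 1 0 0 = 0 := by rw [h0, zero_mulVec]
    rw [show 3 - 1 = 2 from rfl, pow_two, ← mulVec_mulVec, hNv, hNv] at h1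
    have he : e = 0 := by simpa [vec] using h1
    exact hf.indep.ne_zero 2 (by simpa using he)
  · refine closure_eq_top_of_TGroup_le hF le_rfl (by omega) ?_
    set K := (Subgroup.closure ({U, G * U * G⁻¹} : Set ↥(Cfsg.SU 3 F q))).map (suToGU 3 F q)
    have hu : u ∈ K := ⟨U, Subgroup.subset_closure (Set.mem_insert _ _), hU⟩
    have hv : h * u * h⁻¹ ∈ K :=
      ⟨G * U * G⁻¹, Subgroup.subset_closure (Set.mem_insert_of_mem _ rfl), by rw [map_mul, map_mul, map_inv, hU, hG]⟩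
    obtain ⟨he, hne⟩ := hK K hu hv
    exact TGroup_le_three hf hu hv he hne

end Cfsg.Agent.Lib.GenSU
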