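import Cfsg.Agent.Lib.GenSU.Three

/-! Conjugates of the regular unipotent of `SU 3` along which short words fix a point. -/

set_option autoImplicit false
set_option linter.unusedSectionVars false

namespace Cfsg.Agent.Lib.GenSU

open Matrix Module Cfsg.Agent.Lib.Unitary

variable {F : Type*} [Field F] [Fintype F] {q : ℕ}
variable {u : Cfsg.GU 3 F q} {o w e : Fin 3 → F} {β a : F}

/-- The vector of a coordinate triple. -/
def vecOf (o w e : Fin 3 → F) (X : Fin 3 → F) : Fin 3 → F := vec o w e (X 0) (X 1) (X 2)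

theorem Frame.normal (hf : Frame u o w e β a) {a' : F} (ha' : a' + a' ^ q = 1) :
    ∃ o' w' e', Frame u o' w' e' 1 a' := by
  have hF := hf.card
  obtain ⟨A, B, C, hA, hiso, hδ, hN⟩ := hf.exists_iso (δ := a') (by rw [ha']; exact one_ne_zero)
  rw [ha'] at hN
  refine ⟨vec o w e A B C, vec o w e 0 A B, vec o w e 0 0 A, hF, ?_, ?_, ?_, hf.det, hiso, ?_, ?_, ?_, ?_, ?_,
    one_ne_zero, one_pow q, ha', ?_⟩
  · rw [hf.u_vec]; simp [vec, add_smul]; abel
  · rw [hf.u_vec]; simp [vec, add_smul]; abel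
  · rw [hf.u_vec]; simp [vec]
  · rw [hf.u_vec, hf.herm] at hδ
    rw [hf.herm] at hiso ⊢
    simp only [add_pow_q hF, zero_pow_q hF] at hδ ⊢
    linear_combination hδ - hiso
  · rw [hf.herm, zero_pow_q hF]; linear_combination hN
  · rw [hf.herm, zero_pow_q hF]
    have h1 := congrArg (fun x => x) hN
    linear_combination -h1
  · rw [hf.herm, zero_pow_q hF]; ring
  · rw [hf.herm, zero_pow_q hF]; ring
  · have h2 := hf.indep
    rw [Fintype.linearIndependent_iff] at h2 ⊢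
    intro c hc
    have := h2 ![c 0 * A, c 0 * B + c 1 * A, c 0 * C + c 1 * B + c 2 * A] (by
      rw [← hc]; simp [Fin.sum_univ_three, vec, smul_smul, add_smul, smul_add]; abel)
    have e0 : c 0 = 0 := by simpa [hA] using this 0
    have e1 : c 1 = 0 := by simpa [e0, hA] using this 1
    have e2 : c 2 = 0 := by simpa [e0, e1, hA] using this 2
    intro i; fin_cases i <;> assumption

/-- A cube in the norm-one group. -/
theorem exists_cube (hF : Fintype.card F = q ^ 2) {x f : F} (hf : f ^ q = f)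
    (hN : x ^ 3 * f * (x ^ 3 * f) ^ q = 1) : ∃ z : F, z * z ^ q = 1 ∧ z ^ 3 = x ^ 3 * f := by
  rw [mul_pow, hf, ← pow_mul, mul_comm 3 q, pow_mul] at hN
  have h1 : f ^ 2 * (x * x ^ q) ^ 3 = 1 := by linear_combination hN
  refine ⟨x * f * (x * x ^ q), ?_, ?_⟩
  · rw [mul_pow, mul_pow, hf, norm_fixed hF]
    linear_combination h1
  · linear_combination (x ^ 3 * f) * h1

/-- A conjugate of `u` in `SU 3` prescribed on three vectors. -/
theorem Frame.exists_conj (hf : Frame u o w e β a) {X Y : Fin 3 → Fin 3 → F}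
    (hX : (Matrix.of X).det ≠ 0)
    (hg : ∀ i j, hermForm 3 F q (vecOf o w e (X i)) (vecOf o w e (X j)) =
      hermForm 3 F q (vecOf o w e (Y i)) (vecOf o w e (Y j)))
    {x f : F} (hf' : f ^ q = f) (hd : (Matrix.of Y).det = x ^ 3 * f * (Matrix.of X).det) :
    ∃ h G : Cfsg.GU 3 F q, h.1.1.det = 1 ∧ (∀ i, G.1.1 *ᵥ vecOf o w e (X i) = vecOf o w e (Y i)) ∧
      ∀ z, (h * u * h⁻¹).1.1 *ᵥ (G.1.1 *ᵥ z) = G.1.1 *ᵥ (u.1.1 *ᵥ z) := by
  classical
  have hF := hf.card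
  set P : Matrix (Fin 3) (Fin 3) F := Matrix.of fun i j => ![o, w, e] j i with hP
  have hcol : ∀ Z : Fin 3 → Fin 3 → F, ∀ i j, (P * (Matrix.of Z)ᵀ) i j = vecOf o w e (Z j) i := by
    intro Z i j
    simp [hP, vecOf, vec, Matrix.mul_apply, Fin.sum_univ_three]; ring
  have hP0 : P.det ≠ 0 := by
    rw [← isUnit_iff_ne_zero, ← Matrix.isUnit_iff_isUnit_det]
    exact Matrix.linearIndependent_cols_iff_isUnit.1 hf.indep
  have hli : LinearIndependent F fun i => vecOf o w e (X i) := by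
    have hu : IsUnit (P * (Matrix.of X)ᵀ) := by
      rw [Matrix.isUnit_iff_isUnit_det, Matrix.det_mul, Matrix.det_transpose, isUnit_iff_ne_zero]
      exact mul_ne_zero hP0 hX
    have := Matrix.linearIndependent_cols_iff_isUnit.2 hu
    convert this using 1
    funext i j
    exact (hcol X j i).symm
  obtain ⟨G, hG⟩ := exists_GU_of_gram hF hli (c := fun i => vecOf o w e (Y i)) (by simp) hg
  have hGP : G.1.1 * (P * (Matrix.of X)ᵀ) = P * (Matrix.of Y)ᵀ := by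
    ext i j
    rw [hcol, ← hG j, Matrix.mul_apply, mulVec, dotProduct]
    exact Finset.sum_congr rfl fun k _ => by rw [hcol]
  have hGdet : G.1.1.det = x ^ 3 * f := by
    have h := congrArg Matrix.det hGP
    rw [Matrix.det_mul, Matrix.det_mul, Matrix.det_mul, Matrix.det_transpose, Matrix.det_transpose, hd] at h
    exact mul_right_cancel₀ (mul_ne_zero hP0 hX) (by linear_combination h)
  obtain ⟨z, hz, hz3⟩ := exists_cube hF hf' (by rw [← hGdet]; exact det_norm_one hF G)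
  have hz0 : z ≠ 0 := fun h => by simp [h] at hz
  let S : Cfsg.GU 3 F q := mkGU hF (z⁻¹ • (1 : Matrix (Fin 3) (Fin 3) F)) fun x y => by
    rw [smul_mulVec, smul_mulVec, one_mulVec, one_mulVec, herm_smul_left, herm_smul_right, ← mul_assoc,
      inv_norm_one hF hz, one_mul]
  refine ⟨S * G, G, ?_, hG, fun y => ?_⟩
  · simp only [Subgroup.coe_mul, Units.val_mul, Matrix.det_mul, S, mkGU_val, Matrix.det_smul, Matrix.det_one,
      hGdet, ← hz3, Fintype.card_fin, mul_one, inv_pow]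
    exact inv_mul_cancel₀ (pow_ne_zero 3 hz0)
  · have hS : ∀ y, S.1.1 *ᵥ y = z⁻¹ • y := fun y => by
      simp [S, smul_mulVec]
    have hcomm : S * (G * u * G⁻¹) * S⁻¹ = G * u * G⁻¹ := by
      rw [mul_inv_eq_iff_eq_mul]
      exact GU_ext fun y => by rw [GU_mul_mulVec (v := y) S, hS, GU_mul_mulVec (v := y) (G * u * G⁻¹) S, hS, mulVec_smul]
    rw [show S * G * u * (S * G)⁻¹ = S * (G * u * G⁻¹) * S⁻¹ by group, hcomm, GU_mul_mulVec, GU_mul_mulVec,
      GU_inv_mulVec]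

/-- The conclusion: a conjugate and the criterion data. -/
def GenThree (u : Cfsg.GU 3 F q) (e : Fin 3 → F) : Prop :=
  ∃ h : Cfsg.GU 3 F q, h.1.1.det = 1 ∧ ∀ K : Subgroup (Cfsg.GU 3 F q), u ∈ K → h * u * h⁻¹ ∈ K →
    Full K e ∧ hermForm 3 F q ((h * u * h⁻¹).1.1 *ᵥ e) e ≠ 0

/-- The word `v u v` fixes the point `e`. -/
theorem Frame.word_one (hf : Frame u o w e β a) {g : F} (hg : g + g ^ q ≠ 0) :
    ∃ h : Cfsg.GU 3 F q, h.1.1.det = 1 ∧
      hermForm 3 F q ((h * u * h⁻¹).1.1 *ᵥ e) e ≠ 0 ∧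
      (h * u * h⁻¹ * u * (h * u * h⁻¹)).1.1 *ᵥ e = (g ^ q / g) • e := by
  have hF := hf.card
  have hg0 : g ≠ 0 := fun h => hg (by rw [h, zero_pow_q hF, add_zero])
  have hgq : g ^ q ≠ 0 := pow_ne_zero q hg0
  have hβ := hf.β_ne
  obtain ⟨A, B, C, hA, hiso, hγ, hNA⟩ := hf.exists_iso hg
  set δ : F := g / g ^ q * (3 * g + g ^ q) ^ q with hδ
  have h3 : (3 : F) ^ q = 3 := by
    have : (3 : F) = 1 + 1 + 1 := by norm_num
    rw [this, add_pow_q hF, add_pow_q hF, one_pow]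
  have hδt : δ + δ ^ q = (g + g ^ q) ^ 3 / (g * g ^ q) := by
    rw [hδ]
    simp only [mul_pow, div_pow, add_pow_q hF, pow_q_q hF, h3]
    field_simp
    ring
  obtain ⟨A', B', C', hA', hiso', hγ', hNA'⟩ := hf.exists_iso (δ := δ) (by
    rw [hδt]; exact div_ne_zero (pow_ne_zero 3 hg) (mul_ne_zero hg0 hgq))
  have hAq' : A' ^ q ≠ 0 := pow_ne_zero q hA'
  set ρ : F := g / (β * A' ^ q) with hρ
  set l : F := g ^ q / g with hl
  set X : Fin 3 → Fin 3 → F :=
    ![![A, B, C], ![A, A + B, B + C], ![l * A, l * (B - A), l * (C - B + A)]]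
  set Y : Fin 3 → Fin 3 → F := ![![0, 0, ρ], ![A', B', C'], ![A', A' + B', B' + C']]
  set x1 := vec o w e A B C
  set y1 := vec o w e A' B' C'
  have hx0 : vecOf o w e (X 0) = x1 := rfl
  have hx1 : vecOf o w e (X 1) = u.1.1 *ᵥ x1 := by rw [hf.u_vec]; rfl
  have hx2 : vecOf o w e (X 2) = l • (u⁻¹.1.1 *ᵥ x1) := by
    rw [hf.uinv_vec]; simp [X, vecOf, vec, smul_smul, smul_add]
  have hy0 : vecOf o w e (Y 0) = ρ • e := by simp [Y, vecOf, vec]
  have hy1 : vecOf o w e (Y 1) = y1 := rfl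
  have hy2 : vecOf o w e (Y 2) = u.1.1 *ᵥ y1 := by rw [hf.u_vec]; rfl
  have hlq : l ^ q = g / g ^ q := by rw [hl, div_pow, pow_q_q hF]
  have hflip : ∀ x, hermForm 3 F q x (u⁻¹.1.1 *ᵥ x) = (hermForm 3 F q x (u.1.1 *ᵥ x)) ^ q := fun x => by
    rw [← GU_herm x (u⁻¹.1.1 *ᵥ x) u, GU_mulVec_inv, herm_conj x (u.1.1 *ᵥ x) hF]
  have hsq : hermForm 3 F q x1 (u.1.1 *ᵥ (u.1.1 *ᵥ x1)) = 3 * g + g ^ q := by
    have e0 := hiso; have e1 := hγ
    rw [hf.herm] at e0
    rw [hf.u_vec, hf.herm] at e1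
    rw [hf.u_vec, hf.u_vec, hf.herm]
    simp only [add_pow_q hF, mul_pow] at e0 e1 ⊢
    linear_combination 2 * e1 - e0 + hNA
  have h13 : hermForm 3 F q (u.1.1 *ᵥ x1) (l • (u⁻¹.1.1 *ᵥ x1)) = δ := by
    rw [herm_smul_right, hlq, ← GU_herm (u.1.1 *ᵥ x1) (u⁻¹.1.1 *ᵥ x1) u, GU_mulVec_inv,
      ← herm_conj x1 (u.1.1 *ᵥ (u.1.1 *ᵥ x1)) hF, hsq]
  have h02 : hermForm 3 F q x1 (l • (u⁻¹.1.1 *ᵥ x1)) = g := by
    rw [herm_smul_right, hlq, hflip, hγ, div_mul_cancel₀ _ hgq]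
  have h22 : hermForm 3 F q (l • (u⁻¹.1.1 *ᵥ x1)) (l • (u⁻¹.1.1 *ᵥ x1)) = 0 := by
    rw [herm_smul_left, herm_smul_right, GU_herm, hiso, mul_zero, mul_zero]
  have t01 : hermForm 3 F q (ρ • e) y1 = g := by
    rw [herm_smul_left, ← herm_conj y1 e hF, hf.herm_e, mul_pow, hf.β_fix, hρ]
    field_simp
  have t02 : hermForm 3 F q (ρ • e) (u.1.1 *ᵥ y1) = g := by
    rw [herm_smul_left, show hermForm 3 F q e (u.1.1 *ᵥ y1) = hermForm 3 F q e y1 by
      conv_lhs => rw [← hf.ue, GU_herm], ← herm_smul_left, t01]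
  have hX : (Matrix.of X).det = l * A ^ 3 := by
    simp [Matrix.det_fin_three, X]; ring
  obtain ⟨h, G, hdet, hG, hv⟩ := hf.exists_conj (X := X) (Y := Y)
    (by rw [hX]; exact mul_ne_zero (div_ne_zero hgq hg0) (pow_ne_zero 3 hA)) (by
      intro i j
      fin_cases i <;> fin_cases j <;> simp only [Fin.zero_eta, Fin.mk_one, Fin.reduceFinMk, hx0, hx1, hx2, hy0, hy1, hy2]
      · rw [hiso, herm_smul_left, herm_smul_right, hf.ee, mul_zero, mul_zero]
      · rw [hγ, t01]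
      · rw [h02, t02]
      · rw [← herm_conj x1 _ hF, hγ, ← herm_conj (ρ • e) y1 hF, t01]
      · rw [GU_herm, hiso, hiso']
      · rw [h13, hγ']
      · rw [← herm_conj x1 _ hF, h02, ← herm_conj (ρ • e) _ hF, t02]
      · rw [← herm_conj (u.1.1 *ᵥ x1) _ hF, h13, ← herm_conj y1 _ hF, hγ']
      · rw [h22, GU_herm, hiso'])
    (x := g * A' / A) (f := (β * (A' * A' ^ q) * (g * g ^ q))⁻¹)
    (by rw [inv_pow, mul_pow, mul_pow, hf.β_fix, norm_fixed hF, norm_fixed hF]) (by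
      rw [hX]
      simp [Matrix.det_fin_three, Y, hρ, hl]
      field_simp
      ring)
  have r0 := hG 0; have r1 := hG 1; have r2 := hG 2
  rw [hx0, hy0] at r0
  rw [hx1, hy1] at r1
  rw [hx2, hy2] at r2
  have hρ0 : ρ ≠ 0 := div_ne_zero hg0 (mul_ne_zero hβ hAq')
  have hve : (h * u * h⁻¹).1.1 *ᵥ (ρ • e) = y1 := by rw [← r0, hv, r1]
  refine ⟨h, hdet, ?_, ?_⟩
  · intro h0
    have : hermForm 3 F q y1 e = 0 := by rw [← hve, mulVec_smul, herm_smul_left, h0, mul_zero]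
    rw [hf.herm_e] at this
    exact mul_ne_zero hA' hβ this
  · have : (h * u * h⁻¹ * u * (h * u * h⁻¹)).1.1 *ᵥ (ρ • e) = l • (ρ • e) := by
      rw [GU_mul_mulVec, hve, GU_mul_mulVec, ← r2, hv, mulVec_smul, GU_mulVec_inv, mulVec_smul, r0]
    rw [mulVec_smul, smul_comm] at this
    exact smul_right_injective _ hρ0 this

end Cfsg.Agent.Lib.GenSU
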